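import Mathlib
import Cfsg.Agent.Lib.Grp.FreeMonomial
import Cfsg.Agent.Lib.Grp.EndAlgebra

/-!
An element acting freely on `Q / Z` and fixing no vector has every other root of unity as an eigenvalue.
-/

set_option autoImplicit false

namespace Cfsg.Agent.Grp.GrossFpf

open Module Cfsg.Agent.Grp
open scoped commutatorElement

section monomial

variable {K : Type*} [Field K] {U : Type*} [AddCommGroup U] [Module K U] [FiniteDimensional K U]

/-- A free monomial conjugation action misses at most one root of unity as an eigenvalue. -/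
theorem eigen_of_free_monomial {ι : Type*} [Fintype ι] [DecidableEq ι] (o : ι) (σ : Equiv.Perm ι)
    {h : ℕ} [NeZero h] (hh : 2 ≤ h) (hζ : ∃ ζ : K, IsPrimitiveRoot ζ h) (hK : (h : K) ≠ 0)
    (hσo : σ o = o) (hσh : σ ^ h = 1) (hfree : ∀ i, 0 < i → i < h → ∀ g, (σ ^ i) g = g → g = o)
    (b : Basis ι K (Module.End K U)) (hbo : b o = 1) (u : Module.End K U) (hu : u ^ h = 1)
    (hconj : ∀ g, ∃ c : K, u * b g * u ^ (h - 1) = c • b (σ g)) :
    finrank K U * finrank K U = Fintype.card ι ∧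
      ((∀ y, u y = y → y = 0) → 1 < Fintype.card ι → finrank K U + 1 = h ∧
        ∀ μ : K, μ ^ h = 1 → μ ≠ 1 → ∃ y, y ≠ 0 ∧ u y = μ • y) := by
  classical
  obtain ⟨ζ, hζ⟩ := hζ
  set χ := AddChar.zmodChar h hζ.pow_eq_one with hχ
  have hprim : χ.IsPrimitive := AddChar.zmodChar_primitive_of_primitive_root h hζ
  have horth : ∀ x : ZMod h, ∑ i : ZMod h, χ (i * x) = if x = 0 then (h : K) else 0 := by
    intro x
    rw [AddChar.sum_mulShift x hprim, ZMod.card]
    split_ifs <;> simp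
  have hinj : Function.Injective χ := by
    intro x y hxy
    simp only [hχ, AddChar.zmodChar_apply] at hxy
    exact ZMod.val_injective h (hζ.pow_inj (ZMod.val_lt x) (ZMod.val_lt y) hxy)
  -- eigenbasis of `u`
  let Vi : ZMod h → Submodule K U := fun i => Module.End.eigenspace u (χ i)
  have hVtop : ⨆ i, Vi i = ⊤ := by
    refine top_le_iff.mp fun v _ => ?_
    have hsum : (h : K) • v = ∑ i : ZMod h, ∑ t : ZMod h, χ (i * (-t)) • (u ^ t.val) v := by
      rw [Finset.sum_comm]
      simp only [← Finset.sum_smul, horth]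
      simp [ZMod.val_zero]
    have hw : ∀ i : ZMod h, (∑ t : ZMod h, χ (i * (-t)) • (u ^ t.val) v) ∈ Vi i := by
      intro i
      rw [Module.End.mem_eigenspace_iff, map_sum, Finset.smul_sum]
      refine Fintype.sum_equiv (Equiv.addLeft 1) _ _ fun t => ?_
      rw [map_smul, smul_smul, ← AddChar.map_add_eq_mul]
      show _ = χ (i + i * -(1 + t)) • (u ^ (1 + t).val) v
      rw [show i + i * -(1 + t) = i * -t by ring, ← pow_val_mul u hu, Module.End.mul_apply]
      congr 1
      have h1 : (1 : ZMod h).val = 1 := by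
        haveI : Fact (1 < h) := ⟨hh⟩
        exact ZMod.val_one h
      rw [h1, pow_one]
    have hmem : (h : K) • v ∈ ⨆ i, Vi i := hsum ▸ Submodule.sum_mem _ fun i _ => Submodule.mem_iSup_of_mem i (hw i)
    simpa [smul_smul, hK] using (⨆ i, Vi i).smul_mem ((h : K)⁻¹) hmem
  have hint : DirectSum.IsInternal Vi := DirectSum.isInternal_submodule_of_iSupIndep_of_iSup_eq_top
    ((Module.End.eigenspaces_iSupIndep u).comp hinj) hVtop
  let J := (i : ZMod h) × Fin (finrank K (Vi i))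
  let e : Basis J K U := hint.collectedBasis (fun i => Module.finBasis K (Vi i))
  let f : J → ZMod h := Sigma.fst
  have heig : ∀ k : J, u (e k) = χ (f k) • e k := fun k =>
    Module.End.mem_eigenspace_iff.mp (hint.collectedBasis_mem (fun i => Module.finBasis K (Vi i)) k)
  have hupow : ∀ (n : ℕ) (k : J), (u ^ n) (e k) = χ (n • f k) • e k := by
    intro n k
    induction n with
    | zero => simp
    | succ n ih => rw [pow_succ', Module.End.mul_apply, ih, map_smul, heig, smul_smul, succ_nsmul, AddChar.map_add_eq_mul]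
  -- the conjugation map and its projections
  let Φ : Module.End K (Module.End K U) :=
    { toFun := fun T => u * T * u ^ (h - 1)
      map_add' := fun S T => by rw [mul_add, add_mul]
      map_smul' := fun c T => by simp }
  have hΦpow : ∀ (n : ℕ) (T : Module.End K U), (Φ ^ n) T = u ^ n * T * u ^ ((h - 1) * n) := by
    intro n T
    induction n with
    | zero => simp
    | succ n ih =>
      rw [pow_succ', Module.End.mul_apply, ih]
      show u * (u ^ n * T * u ^ ((h - 1) * n)) * u ^ (h - 1) = _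
      rw [mul_add, mul_one, pow_add u ((h - 1) * n), pow_succ' u n]
      simp only [mul_assoc]
  have hΦh : Φ ^ h = 1 := by
    refine LinearMap.ext fun T => ?_
    rw [hΦpow, hu, mul_comm (h - 1) h, pow_mul, hu, one_pow, one_mul, mul_one]
    rfl
  let P : ZMod h → Module.End K (Module.End K U) := fun j => ∑ i : ZMod h, χ (i * (-j)) • Φ ^ i.val
  have hPΦ : ∀ j T, P j (Φ T) = χ j • P j T := by
    intro j T
    simp only [P, LinearMap.sum_apply, LinearMap.smul_apply, Finset.smul_sum, smul_smul, ← AddChar.map_add_eq_mul]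
    refine Fintype.sum_equiv (Equiv.addRight 1) _ _ fun i => ?_
    show χ (i * -j) • (Φ ^ i.val) (Φ T) = χ (j + (i + 1) * -j) • (Φ ^ (i + 1).val) T
    rw [show j + (i + 1) * -j = i * -j by ring, ← pow_val_mul Φ hΦh, Module.End.mul_apply]
    congr 2
    have h1 : (1 : ZMod h).val = 1 := by
      haveI : Fact (1 < h) := ⟨hh⟩
      exact ZMod.val_one h
    rw [h1, pow_one]
  -- matrix units are eigenvectors
  set E := e.linearMap e with hE
  have hEkl : ∀ (n : ℕ) (kl : J × J), (Φ ^ n) (E kl) = χ (n • (f kl.1 - f kl.2)) • E kl := by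
    intro n kl
    rw [hΦpow]
    refine e.ext fun t => ?_
    rw [Module.End.mul_apply, Module.End.mul_apply, hupow, map_smul, map_smul, hE,
      Module.Basis.linearMap_apply_apply, LinearMap.smul_apply, Module.Basis.linearMap_apply_apply]
    by_cases hkt : kl.2 = t
    · rw [if_pos hkt, hupow, smul_smul, ← AddChar.map_add_eq_mul]
      congr 2
      subst hkt
      simp only [nsmul_eq_mul, Nat.cast_mul, Nat.cast_sub (show 1 ≤ h by omega), ZMod.natCast_self, Nat.cast_one]
      ring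
    · rw [if_neg hkt, map_zero, smul_zero, smul_zero]
  have hPE : ∀ j (kl : J × J), f kl.1 - f kl.2 = j → P j (E kl) = (h : K) • E kl := by
    intro j kl hkl
    simp only [P, LinearMap.sum_apply, LinearMap.smul_apply, hEkl, smul_smul, ← AddChar.map_add_eq_mul, ← Finset.sum_smul]
    congr 1
    have e1 : ∀ i : ZMod h, i * -j + i.val • (f kl.1 - f kl.2) = i * 0 := fun i => by
      rw [nsmul_eq_mul, ZMod.natCast_zmod_val, hkl]; ring
    simp only [e1]
    rw [horth 0, if_pos rfl]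
  set N : ZMod h → ℕ := fun j => Fintype.card {kl : J × J // f kl.1 - f kl.2 = j} with hN
  have hlower : ∀ j, N j ≤ finrank K (LinearMap.range (P j)) := by
    intro j
    let v : {kl : J × J // f kl.1 - f kl.2 = j} → LinearMap.range (P j) := fun kl =>
      ⟨E kl.1, ⟨(h : K)⁻¹ • E kl.1, by rw [map_smul, hPE j _ kl.2, smul_smul, inv_mul_cancel₀ hK, one_smul]⟩⟩
    have hli : LinearIndependent K v :=
      LinearIndependent.of_comp (LinearMap.range (P j)).subtype
        (E.linearIndependent.comp Subtype.val Subtype.val_injective)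
    exact hli.fintype_card_le_finrank
  -- orbit representatives
  let S := {g : ι // g ≠ o}
  have hσi : ∀ (i : ℕ) (g : ι), g ≠ o → (σ ^ i) g ≠ o := by
    intro i g hg e'
    have : (σ ^ i) o = o := Equiv.Perm.pow_apply_eq_self_of_apply_eq_self hσo i
    exact hg ((σ ^ i).injective (e'.trans this.symm))
  let R : Setoid S :=
    { r := fun g g' => ∃ i : ZMod h, (σ ^ i.val) (g : ι) = g'
      iseqv := ⟨fun g => ⟨0, by simp⟩,
        fun {g g'} ⟨i, hi⟩ => ⟨-i, by rw [← hi, ← Equiv.Perm.mul_apply, pow_val_mul σ hσh, neg_add_cancel]; simp⟩,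
        fun {g g' g''} ⟨i, hi⟩ ⟨i', hi'⟩ => ⟨i' + i, by rw [← hi', ← hi, ← Equiv.Perm.mul_apply, pow_val_mul σ hσh]⟩⟩ }
  haveI : Fintype (Quotient R) := Fintype.ofFinite _
  have hbij : Function.Bijective (fun x : Quotient R × ZMod h =>
      (⟨(σ ^ x.2.val) (x.1.out : S), hσi _ _ (x.1.out).2⟩ : S)) := by
    constructor
    · rintro ⟨O, i⟩ ⟨O', i'⟩ hx
      have hx' : (σ ^ i.val) (O.out : ι) = (σ ^ i'.val) (O'.out : ι) := congrArg Subtype.val hx
      have hOO : O = O' := by
        rw [← O.out_eq, ← O'.out_eq]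
        refine Quotient.sound ⟨-i' + i, ?_⟩
        rw [← pow_val_mul σ hσh, Equiv.Perm.mul_apply, hx', ← Equiv.Perm.mul_apply, pow_val_mul σ hσh, neg_add_cancel]
        simp
      subst hOO
      have h1 : (σ ^ (-i' + i).val) (O.out : ι) = O.out := by
        rw [← pow_val_mul σ hσh, Equiv.Perm.mul_apply, hx', ← Equiv.Perm.mul_apply, pow_val_mul σ hσh, neg_add_cancel]
        simp
      refine Prod.ext rfl ?_
      by_contra hne
      have hpos : 0 < (-i' + i).val := Nat.pos_of_ne_zero fun e' => hne (by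
        have := (ZMod.val_eq_zero _).mp e'
        exact (neg_add_eq_zero.mp this).symm)
      exact (O.out).2 (hfree _ hpos (ZMod.val_lt _) _ h1)
    · intro g
      obtain ⟨i, hi⟩ := Quotient.exact (Quotient.out_eq (Quotient.mk R g))
      exact ⟨(Quotient.mk R g, i), Subtype.ext hi⟩
  set c := Nat.card (Quotient R) with hc
  have hcard : Fintype.card ι = c * h + 1 := by
    have h1 := Nat.card_congr (Equiv.ofBijective _ hbij)
    rw [Nat.card_prod, Nat.card_zmod, ← hc, Nat.card_eq_fintype_card (α := S), Fintype.card_subtype_compl, Fintype.card_subtype_eq] at h1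
    have h2 : 0 < Fintype.card ι := Fintype.card_pos_iff.mpr ⟨o⟩
    omega
  have hscal : ∀ g, ∃ c : K, c ≠ 0 ∧ Φ (b g) = c • b (σ g) := by
    intro g
    obtain ⟨c, hc⟩ := hconj g
    refine ⟨c, fun e' => ?_, hc⟩
    rw [e', zero_smul] at hc
    have h1 : (Φ ^ h) (b g) = b g := by rw [hΦh]; rfl
    rw [show h = (h - 1) + 1 by omega, pow_succ, Module.End.mul_apply,
      show Φ (b g) = 0 from hc, map_zero] at h1
    exact b.ne_zero g h1.symm
  have hupper : ∀ j, finrank K (LinearMap.range (P j)) ≤ c + if j = 0 then 1 else 0 := by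
    intro j
    have hPo : j ≠ 0 → P j (b o) = 0 := by
      intro hj
      simp only [P, LinearMap.sum_apply, LinearMap.smul_apply, hbo, hΦpow, mul_one, ← pow_add]
      have e1 : ∀ n : ℕ, u ^ (n + (h - 1) * n) = 1 := fun n => by
        rw [show n + (h - 1) * n = h * n by
          calc n + (h - 1) * n = ((h - 1) + 1) * n := by ring
            _ = h * n := by rw [Nat.sub_add_cancel (show 1 ≤ h by omega)], pow_mul, hu, one_pow]
      simp only [e1, ← Finset.sum_smul]
      rw [horth, if_neg (neg_ne_zero.mpr hj), zero_smul]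
    let s : Finset (Module.End K U) :=
      (Finset.univ.image fun O : Quotient R => P j (b (O.out : S))) ∪ if j = 0 then {P j (b o)} else ∅
    have hle : LinearMap.range (P j) ≤ Submodule.span K (s : Set (Module.End K U)) := by
      rw [← Submodule.map_top, ← b.span_eq, Submodule.map_span, Submodule.span_le]
      rintro _ ⟨_, ⟨g, rfl⟩, rfl⟩
      by_cases hg : g = o
      · subst hg
        by_cases hj : j = 0
        · exact Submodule.subset_span (by simp [s, hj])
        · rw [hPo hj]; exact Submodule.zero_mem _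
      · obtain ⟨⟨O, i⟩, hOi⟩ := hbij.2 ⟨g, hg⟩
        have hgv : (σ ^ i.val) (O.out : ι) = g := congrArg Subtype.val hOi
        rw [← hgv]
        have key : ∀ n : ℕ, P j (b ((σ ^ n) (O.out : ι))) ∈ Submodule.span K (s : Set (Module.End K U)) := by
          intro n
          induction n with
          | zero => exact Submodule.subset_span (by simp [s])
          | succ n ih =>
            obtain ⟨c, hc0, hc1⟩ := hscal ((σ ^ n) (O.out : ι))
            have h2 := congrArg (P j) hc1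
            rw [hPΦ, map_smul] at h2
            rw [pow_succ', Equiv.Perm.mul_apply,
              show P j (b (σ ((σ ^ n) (O.out : ι)))) = c⁻¹ • (χ j • P j (b ((σ ^ n) (O.out : ι)))) by
                rw [h2, smul_smul, inv_mul_cancel₀ hc0, one_smul]]
            exact Submodule.smul_mem _ _ (Submodule.smul_mem _ _ ih)
        exact key _
    refine (Submodule.finrank_mono hle).trans ((finrank_span_finset_le_card s).trans ?_)
    refine (Finset.card_union_le _ _).trans (Nat.add_le_add (Finset.card_image_le.trans (by rw [hc, Nat.card_eq_fintype_card, Finset.card_univ])) ?_)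
    split_ifs <;> simp
  have hd : finrank K U = Fintype.card J := Module.finrank_eq_card_basis e
  have hdd : finrank K U * finrank K U = Fintype.card ι := by
    rw [← Module.finrank_linearMap K K U U, Module.finrank_eq_card_basis b]
  have hNsum : ∑ j, N j = Fintype.card ι := by
    rw [← hdd, hd, ← Fintype.card_prod, ← Fintype.card_sigma]
    exact Fintype.card_congr (Equiv.sigmaFiberEquiv (fun kl : J × J => f kl.1 - f kl.2))
  have hNeq : ∀ j, N j = c + if j = 0 then 1 else 0 := by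
    intro j
    by_contra hne
    have h1 : ∑ j, N j < ∑ j : ZMod h, (c + if j = 0 then 1 else 0) :=
      Finset.sum_lt_sum (fun i _ => (hlower i).trans (hupper i))
        ⟨j, Finset.mem_univ _, lt_of_le_of_ne ((hlower j).trans (hupper j)) hne⟩
    rw [hNsum, Finset.sum_add_distrib, Finset.sum_const, Finset.card_univ, ZMod.card,
      Finset.sum_ite_eq' Finset.univ (0 : ZMod h) (fun _ => 1), if_pos (Finset.mem_univ _), smul_eq_mul, hcard,
      mul_comm] at h1
    omega
  let m : ZMod h → ℕ := fun i => Fintype.card {k : J // f k = i}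
  have hm : ∀ j, ∑ i, m i * m (i + j) = c + if j = 0 then 1 else 0 := by
    intro j
    rw [← hNeq j, hN]
    simp only [m, ← Fintype.card_prod, ← Fintype.card_sigma]
    refine Fintype.card_congr
      { toFun := fun x => ⟨(x.2.2.1, x.2.1.1), by
          show f x.2.2.1 - f x.2.1.1 = j
          rw [x.2.2.2, x.2.1.2, add_sub_cancel_left]⟩
        invFun := fun y => ⟨f y.1.2, ⟨y.1.2, rfl⟩, ⟨y.1.1, by have := y.2; linear_combination this⟩⟩
        left_inv := by rintro ⟨i, ⟨l, rfl⟩, ⟨k, hk⟩⟩; rfl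
        right_inv := by rintro ⟨⟨k, l⟩, hkl⟩; rfl }
  obtain ⟨a, ha, hcase⟩ := multiplicity_dichotomy hh m c hm
  have hmsum : ∑ i, m i = finrank K U := by
    rw [hd]
    simp only [m, ← Fintype.card_sigma]
    exact Fintype.card_congr (Equiv.sigmaFiberEquiv f)
  rw [hmsum] at hcase
  refine ⟨hdd, fun hfix h1 => ?_⟩
  have hm0 : m 0 = 0 := by
    rw [Fintype.card_eq_zero_iff]
    refine ⟨fun k => e.ne_zero k.1 (hfix _ ?_)⟩
    rw [heig, k.2, AddChar.map_zero_eq_one, one_smul]
  have ha0 : a = 0 := Nat.le_zero.mp (hm0 ▸ ha 0)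
  have hdh : finrank K U + 1 = h := by
    rcases hcase with e' | e'
    · rw [← hdd, e', ha0] at h1
      simp at h1
    · rw [e', ha0, zero_add, one_mul]
  refine ⟨hdh, fun μ hμ hμ1 => ?_⟩
  by_contra hno
  push Not at hno
  obtain ⟨t, -, ht⟩ := hζ.eq_pow_of_pow_eq_one hμ
  set i₁ : ZMod h := (t : ZMod h)
  have hi₁ : χ i₁ = μ := by
    rw [← ht]; simp only [hχ, AddChar.zmodChar_apply', i₁]
  have hi₁0 : i₁ ≠ 0 := fun e' => hμ1 (by rw [← hi₁, e', AddChar.map_zero_eq_one])
  have hm1 : m i₁ = 0 := by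
    rw [Fintype.card_eq_zero_iff]
    refine ⟨fun k => hno _ (e.ne_zero k.1) ?_⟩
    rw [heig, k.2, hi₁]
  obtain ⟨g, hg⟩ : ∃ g, h = g + 2 := ⟨h - 2, by omega⟩
  have hd1 : finrank K U = g + 1 := by omega
  have hcg : c = g := by
    have e1 : (g + 1) * (g + 1) = c * h + 1 := by rw [← hd1, hdd, hcard]
    rw [hg] at e1
    have e2 : g * (g + 2) = c * (g + 2) := by linarith [e1, show (g + 1) * (g + 1) = g * (g + 2) + 1 by ring]
    exact (Nat.eq_of_mul_eq_mul_right (by omega) e2).symm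
  have hsq := hm 0
  simp only [add_zero, if_true] at hsq
  have hle1 : ∀ i, m i ≤ 1 := by
    intro i
    by_contra hlt
    have h2 : ∑ i, m i < ∑ i, m i * m i := Finset.sum_lt_sum
      (fun i _ => Nat.le_mul_self _) ⟨i, Finset.mem_univ _, by nlinarith [show 2 ≤ m i by omega]⟩
    rw [hmsum, hsq, hcg, hd1] at h2
    omega
  have h3 : ∑ i, m i ≤ ∑ i ∈ ((Finset.univ : Finset (ZMod h)).erase 0).erase i₁, 1 := by
    rw [← Finset.add_sum_erase _ _ (Finset.mem_univ (0 : ZMod h)),
      ← Finset.add_sum_erase _ _ (Finset.mem_erase.mpr ⟨hi₁0, Finset.mem_univ i₁⟩), hm0, hm1, zero_add, zero_add]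
    exact Finset.sum_le_sum fun i _ => hle1 i
  rw [hmsum, hd1, Finset.sum_const, Finset.card_erase_of_mem (Finset.mem_erase.mpr ⟨hi₁0, Finset.mem_univ i₁⟩),
    Finset.card_erase_of_mem (Finset.mem_univ _), Finset.card_univ, ZMod.card, smul_eq_mul, mul_one] at h3
  omega

end monomial

/-- In the Hall–Higman situation every root of unity other than one is an eigenvalue. -/
theorem hallHigman_eigen {K : Type*} [Field K] [IsAlgClosed K] {V : Type*} [AddCommGroup V] [Module K V]
    [FiniteDimensional K V] [Nontrivial V] {Γ : Type*} [Group Γ] [Finite Γ] (ρ : Γ →* Module.End K V)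
    (Q Z : Subgroup Γ) (x : Γ) {h : ℕ} (hh : 2 ≤ h) (hK : (h : K) ≠ 0) (hxh : x ^ h = 1)
    (hxQ : x ∈ Subgroup.normalizer (Q : Set Γ)) (hxZm : ∀ z ∈ Z, x * z * x⁻¹ ∈ Z)
    (hcomm : ∀ g ∈ Q, ∀ t ∈ Q, ⁅t, g⁆ ∈ Z) (ω : Γ → K) (hxω : ∀ z ∈ Z, ω (x * z * x⁻¹) = ω z)
    (hω : ∀ z ∈ Z, ρ z = ω z • 1)
    (hnondeg : ∀ g ∈ Q, g ∉ Z → ∃ t ∈ Q, ω ⁅t, g⁆ ≠ 1) (hZQ : Z ≤ Q)
    (hfree : ∀ i, 0 < i → i < h → ∀ g ∈ Q, g⁻¹ * (x ^ i * g * (x ^ i)⁻¹) ∈ Z → g ∈ Z) :
    ∃ d : ℕ, d * d = Z.relIndex Q ∧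
      ((∀ v, ρ x v = v → v = 0) → Z < Q → d + 1 = h ∧
        ∀ μ : K, μ ^ h = 1 → μ ≠ 1 → ∃ v, v ≠ 0 ∧ ρ x v = μ • v) := by
  classical
  haveI : NeZero h := ⟨by omega⟩
  haveI : NeZero (h : K) := ⟨hK⟩
  -- an irreducible `Q`-submodule
  obtain ⟨U, ⟨hU0, hUinv⟩, hUmin⟩ : ∃ U : Submodule K V, (U ≠ ⊥ ∧ ∀ g ∈ Q, ∀ v ∈ U, ρ g v ∈ U) ∧
      ∀ W : Submodule K V, W < U → ¬ (W ≠ ⊥ ∧ ∀ g ∈ Q, ∀ v ∈ W, ρ g v ∈ W) := by
    obtain ⟨U, hU, hmin⟩ := (IsWellFounded.wf : WellFounded ((· < ·) : Submodule K V → Submodule K V → Prop)).has_min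
      {W : Submodule K V | W ≠ ⊥ ∧ ∀ g ∈ Q, ∀ v ∈ W, ρ g v ∈ W} ⟨⊤, top_ne_bot, fun _ _ _ _ => trivial⟩
    exact ⟨U, hU, fun W hW h' => hmin W h' hW⟩
  haveI : Nontrivial U := Submodule.nontrivial_iff_ne_bot.mpr hU0
  let ρU : ↥Q →* Module.End K U :=
    { toFun := fun q => (ρ (q : Γ)).restrict (fun v hv => hUinv q q.2 v hv)
      map_one' := LinearMap.ext fun v => Subtype.ext (by simp [LinearMap.restrict_apply])
      map_mul' := fun a b => LinearMap.ext fun v => Subtype.ext (by simp [LinearMap.restrict_apply]) }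
  have hρU : ∀ (q : ↥Q) (v : U), ((ρU q v : U) : V) = ρ (q : Γ) v := fun q v => rfl
  have hirr : ∀ S : Submodule K U, (∀ q, ∀ v ∈ S, ρU q v ∈ S) → S = ⊥ ∨ S = ⊤ := by
    intro S hS
    by_cases hS0 : S = ⊥
    · exact Or.inl hS0
    right
    by_contra hS1
    refine hUmin (S.map U.subtype) ?_ ⟨fun e => hS0 ?_, ?_⟩
    · refine lt_of_le_of_ne (Submodule.map_subtype_le U S) fun e => hS1 ?_
      refine Submodule.map_injective_of_injective U.injective_subtype ?_
      rw [e, Submodule.map_top, Submodule.range_subtype]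
    · refine Submodule.map_injective_of_injective U.injective_subtype ?_
      rw [e, Submodule.map_bot]
    · rintro g hg _ ⟨v, hv, rfl⟩
      exact ⟨ρU ⟨g, hg⟩ v, hS _ v hv, rfl⟩
  set Z' := Z.subgroupOf Q with hZ'
  have hZ'n : Z'.Normal := ⟨fun z hz t => by
    have h1 : ((t * z * t⁻¹ : ↥Q) : Γ) = ⁅(t : Γ), (z : Γ)⁆ * z := by
      simp only [Subgroup.coe_mul, Subgroup.coe_inv, commutatorElement_def]; group
    show ((t * z * t⁻¹ : ↥Q) : Γ) ∈ Z
    rw [h1]
    exact Z.mul_mem (hcomm _ z.2 _ t.2) hz⟩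
  have hUz : ∀ z : ↥Q, z ∈ Z' → ρU z = ω (z : Γ) • 1 := fun z hz => LinearMap.ext fun v => Subtype.ext (by
    rw [hρU, hω _ (show (z : Γ) ∈ Z from hz)]; rfl)
  have hinv : ∀ q : ↥Q, ρU q⁻¹ * ρU q = 1 := fun q => by rw [← map_mul, inv_mul_cancel, map_one]
  have hne0 : ∀ q : ↥Q, ρU q ≠ 0 := fun q e => by
    have := hinv q
    rw [e, mul_zero] at this
    exact zero_ne_one this
  have huniq : ∀ c c' : K, c • (1 : Module.End K U) = c' • 1 → c = c' := fun c c' e => by
    obtain ⟨v, hv⟩ := exists_ne (0 : U)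
    exact smul_left_injective K hv (by simpa using LinearMap.congr_fun e v)
  -- representatives
  let r : ↥Q ⧸ Z' → ↥Q := fun g => if g = 1 then 1 else g.out
  have hr : ∀ g : ↥Q ⧸ Z', ((r g : ↥Q) : ↥Q ⧸ Z') = g := fun g => by
    by_cases hg : g = 1 <;> simp [r, hg]
  have hdec : ∀ q : ↥Q, ∃ z ∈ Z', q = r (q : ↥Q ⧸ Z') * z := fun q =>
    ⟨(r (q : ↥Q ⧸ Z'))⁻¹ * q, QuotientGroup.eq.mp (hr _), (mul_inv_cancel_left _ _).symm⟩
  haveI : Fintype (↥Q ⧸ Z') := Fintype.ofFinite _
  set B : ↥Q ⧸ Z' → Module.End K U := fun g => ρU (r g) with hB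
  have hqB : ∀ q : ↥Q, ∃ c : K, ρU q = c • B (q : ↥Q ⧸ Z') := fun q => by
    obtain ⟨z, hz, e⟩ := hdec q
    refine ⟨ω (z : Γ), ?_⟩
    conv_lhs => rw [e]
    rw [map_mul, hUz z hz, mul_smul_comm, mul_one]
  have hspan : ⊤ ≤ Submodule.span K (Set.range B) := by
    rw [← span_eq_top_of_irreducible ρU hirr, Submodule.span_le]
    rintro _ ⟨q, rfl⟩
    obtain ⟨c, hc⟩ := hqB q
    rw [hc]
    exact Submodule.smul_mem _ _ (Submodule.subset_span ⟨_, rfl⟩)
  have hli : LinearIndependent K B := by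
    rw [linearIndependent_iff']
    intro s
    induction hs : s.card using Nat.strong_induction_on generalizing s with
    | _ n ih =>
    intro a hsum g₁ hg₁
    by_cases hone : ∀ g ∈ s, g = g₁
    · rw [Finset.sum_eq_single_of_mem g₁ hg₁ (fun g hg hne => absurd (hone g hg) hne)] at hsum
      exact (smul_eq_zero.mp hsum).resolve_right (hne0 _)
    push Not at hone
    obtain ⟨g₂, hg₂, hne⟩ := hone
    set e : ↥Q := (r g₂)⁻¹ * r g₁ with he
    have heZ : e ∉ Z' := fun h1 => hne (by rw [← hr g₁, ← hr g₂]; exact QuotientGroup.eq.mpr h1)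
    obtain ⟨t, ht, hte⟩ := hnondeg (e : Γ) e.2 heZ
    set c : ↥Q ⧸ Z' → K := fun g => ω ⁅t, ((r g : ↥Q) : Γ)⁆ with hc
    have hcj : ∀ g, ρU ⟨t, ht⟩ * B g * ρU (⟨t, ht⟩ : ↥Q)⁻¹ = c g • B g := by
      intro g
      have h1 : ⁅(⟨t, ht⟩ : ↥Q), r g⁆ ∈ Z' := hcomm _ (r g).2 _ ht
      calc ρU ⟨t, ht⟩ * B g * ρU (⟨t, ht⟩ : ↥Q)⁻¹ = ρU (⁅(⟨t, ht⟩ : ↥Q), r g⁆ * r g) := by
            rw [hB, ← map_mul, ← map_mul]; congr 1; rw [commutatorElement_def]; group
        _ = c g • B g := by rw [map_mul, hUz _ h1, smul_mul_assoc, one_mul]; rfl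
    have hc12 : c g₁ ≠ c g₂ := by
      intro heq
      have hel : ∀ w : ↥Q, ρU ⁅(⟨t, ht⟩ : ↥Q), w⁆ = ω ⁅t, (w : Γ)⁆ • 1 := fun w => hUz _ (hcomm _ w.2 _ ht)
      have h1 : ρU ⁅(⟨t, ht⟩ : ↥Q), r g₁⁆ = ρU ⁅(⟨t, ht⟩ : ↥Q), r g₂⁆ * (ρU (r g₂) * ρU ⁅(⟨t, ht⟩ : ↥Q), e⁆ * ρU (r g₂)⁻¹) := by
        rw [← map_mul, ← map_mul, ← map_mul, he]; congr 1; simp only [commutatorElement_def]; group
      rw [hel, hel, hel] at h1
      simp only [smul_mul_assoc, mul_smul_comm, one_mul, mul_one, smul_smul] at h1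
      rw [← map_mul, mul_inv_cancel, map_one] at h1
      have h2 : c g₁ = ω ⁅t, (e : Γ)⁆ * c g₂ := huniq _ _ h1
      have hc0 : c g₂ ≠ 0 := fun e0 => hne0 ⁅(⟨t, ht⟩ : ↥Q), r g₂⁆ (by
        rw [hel, show ω ⁅t, ((r g₂ : ↥Q) : Γ)⁆ = 0 from e0, zero_smul])
      rw [heq] at h2
      exact hte (mul_right_cancel₀ hc0 (by rw [one_mul]; exact h2.symm))
    have hnew : ∑ g ∈ s.erase g₂, (a g * (c g - c g₂)) • B g = 0 := by
      rw [Finset.sum_erase _ (by rw [sub_self, mul_zero, zero_smul])]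
      have h1 : ∑ g ∈ s, (a g * c g) • B g = 0 := by
        have h2 := congrArg (fun T => ρU ⟨t, ht⟩ * T * ρU (⟨t, ht⟩ : ↥Q)⁻¹) hsum
        simp only [Finset.mul_sum, Finset.sum_mul, mul_smul_comm, smul_mul_assoc, hcj, mul_zero, zero_mul,
          smul_smul] at h2
        exact h2
      calc ∑ g ∈ s, (a g * (c g - c g₂)) • B g
          = ∑ g ∈ s, ((a g * c g) • B g + (-c g₂) • (a g • B g)) := Finset.sum_congr rfl fun g _ => by
            rw [smul_smul]
            refine Eq.trans ?_ (add_smul _ _ _)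
            congr 1
            ring
        _ = (∑ g ∈ s, (a g * c g) • B g) + (-c g₂) • ∑ g ∈ s, a g • B g := by
            rw [Finset.sum_add_distrib, Finset.smul_sum]
        _ = 0 := by rw [h1, hsum, smul_zero, add_zero]
    have h3 := ih (s.erase g₂).card (hs ▸ Finset.card_erase_lt_of_mem hg₂) (s.erase g₂) rfl _ hnew g₁
      (Finset.mem_erase.mpr ⟨Ne.symm hne, hg₁⟩)
    exact (mul_eq_zero.mp h3).resolve_right (sub_ne_zero.mpr hc12)
  let b := Basis.mk hli hspan
  have hb : ∀ g, b g = B g := fun g => Basis.mk_apply hli hspan g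
  have hbo : b 1 = 1 := by rw [hb, hB]; simp [r]
  -- extending to algebra maps
  have hext : ∀ {W : Type _} [AddCommGroup W] [Module K W] (η : ↥Q →* Module.End K W),
      (∀ z ∈ Z', η z = ω (z : Γ) • 1) →
      ∃ ψ : Module.End K U →ₐ[K] Module.End K W, ∀ q, ψ (ρU q) = η q := by
    intro W _ _ η hη
    let ψ := b.constr K (fun g => η (r g))
    have hψ : ∀ q, ψ (ρU q) = η q := by
      intro q
      obtain ⟨z, hz, e⟩ := hdec q
      conv_lhs => rw [e, map_mul, hUz z hz, mul_smul_comm, mul_one, map_smul]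
      conv_rhs => rw [e, map_mul, hη z hz, mul_smul_comm, mul_one]
      congr 1
      show ψ (B _) = _
      rw [← hb, Basis.constr_basis]
    refine ⟨AlgHom.ofLinearMap ψ (by rw [← map_one ρU, hψ, map_one]) ?_, hψ⟩
    intro S T
    induction (b.span_eq ▸ Submodule.mem_top : S ∈ Submodule.span K (Set.range b)) using Submodule.span_induction with
    | mem S hS =>
      obtain ⟨g, rfl⟩ := hS
      induction (b.span_eq ▸ Submodule.mem_top : T ∈ Submodule.span K (Set.range b)) using Submodule.span_induction with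
      | mem T hT =>
        obtain ⟨k, rfl⟩ := hT
        rw [hb, hb, hB, ← map_mul, hψ, hψ, hψ, map_mul]
      | zero => simp
      | add _ _ _ _ h1 h2 => simp only [mul_add, map_add, h1, h2]
      | smul c _ _ h1 => simp only [mul_smul_comm, map_smul, h1]
    | zero => simp
    | add _ _ _ _ h1 h2 => simp only [add_mul, map_add, h1, h2]
    | smul c _ _ h1 => simp only [smul_mul_assoc, map_smul, h1]
  -- twisting by `x`
  let tw : ↥Q →* ↥Q :=
    { toFun := fun q => ⟨x * q * x⁻¹, (Subgroup.mem_normalizer_iff.mp hxQ q).mp q.2⟩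
      map_one' := Subtype.ext (by simp)
      map_mul' := fun a b => Subtype.ext (by simp [mul_assoc]) }
  have htwZ : ∀ z ∈ Z', tw z ∈ Z' := fun z hz => hxZm _ (show (z : Γ) ∈ Z from hz)
  obtain ⟨ψ, hψ⟩ := hext (ρU.comp tw) (fun z hz => by
    rw [MonoidHom.comp_apply, hUz _ (htwZ z hz)]
    congr 1
    exact hxω _ (show (z : Γ) ∈ Z from hz))
  obtain ⟨φ₀, hφ₀, hφψ⟩ := exists_intertwine ψ
  set u₀ : Module.End K U := φ₀ with hu₀
  have hu₀q : ∀ q, u₀ * ρU q = ρU (tw q) * u₀ := fun q => LinearMap.ext fun y => by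
    show φ₀ (ρU q y) = ρU (tw q) (φ₀ y)
    rw [hφψ, hψ]; rfl
  have hu₀pow : ∀ (n : ℕ) q, u₀ ^ n * ρU q = ρU (tw^[n] q) * u₀ ^ n := by
    intro n
    induction n with
    | zero => intro q; simp
    | succ n ih =>
      intro q
      rw [pow_succ', mul_assoc, ih, ← mul_assoc, hu₀q, mul_assoc, Function.iterate_succ_apply']
  have htwn : ∀ (n : ℕ) (q : ↥Q), ((tw^[n] q : ↥Q) : Γ) = x ^ n * q * (x ^ n)⁻¹ := by
    intro n
    induction n with
    | zero => intro q; simp
    | succ n ih =>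
      intro q
      rw [Function.iterate_succ_apply']
      show x * ((tw^[n] q : ↥Q) : Γ) * x⁻¹ = _
      rw [ih, pow_succ']; group
  have htwh : ∀ q, tw^[h] q = q := fun q => Subtype.ext (by rw [htwn, hxh]; simp)
  obtain ⟨c, hc⟩ : ∃ c : K, u₀ ^ h = c • 1 := by
    obtain ⟨c, hc⟩ := Module.End.exists_eigenvalue (u₀ ^ h)
    refine ⟨c, LinearMap.ext fun v => ?_⟩
    have htop : Module.End.eigenspace (u₀ ^ h) c = ⊤ := by
      refine (hirr _ fun q w hw => ?_).resolve_left hc
      rw [Module.End.mem_eigenspace_iff] at hw ⊢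
      have := LinearMap.congr_fun (hu₀pow h q) w
      rw [htwh, Module.End.mul_apply, Module.End.mul_apply, hw, map_smul] at this
      exact this
    exact Module.End.mem_eigenspace_iff.mp (htop ▸ Submodule.mem_top : v ∈ Module.End.eigenspace (u₀ ^ h) c)
  have hc0 : c ≠ 0 := by
    rintro rfl
    rw [zero_smul] at hc
    have hinj : Function.Injective (u₀ ^ h : Module.End K U) := by rw [Module.End.coe_pow]; exact hφ₀.iterate h
    obtain ⟨y, hy⟩ := exists_ne (0 : U)
    exact hy (hinj (by rw [hc]; simp))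
  obtain ⟨ν, hν⟩ := IsAlgClosed.exists_pow_nat_eq c⁻¹ (show 0 < h by omega)
  set u₁ : Module.End K U := ν • u₀ with hu₁
  have hu₁h : u₁ ^ h = 1 := by rw [hu₁, smul_pow, hν, hc, smul_smul, inv_mul_cancel₀ hc0, one_smul]
  have hu₁q : ∀ q, u₁ * ρU q = ρU (tw q) * u₁ := fun q => by rw [hu₁, smul_mul_assoc, mul_smul_comm, hu₀q]
  have hu₁inv : u₁ * u₁ ^ (h - 1) = 1 := by rw [← pow_succ', show h - 1 + 1 = h by omega, hu₁h]
  have hu₁inv' : u₁ ^ (h - 1) * u₁ = 1 := by rw [← pow_succ, show h - 1 + 1 = h by omega, hu₁h]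
  have hu₁q' : ∀ q, u₁ ^ (h - 1) * ρU (tw q) = ρU q * u₁ ^ (h - 1) := fun q => by
    calc u₁ ^ (h - 1) * ρU (tw q) = u₁ ^ (h - 1) * (ρU (tw q) * (u₁ * u₁ ^ (h - 1))) := by rw [hu₁inv, mul_one]
      _ = u₁ ^ (h - 1) * (u₁ * ρU q) * u₁ ^ (h - 1) := by rw [hu₁q]; simp only [mul_assoc]
      _ = _ := by rw [← mul_assoc, hu₁inv', one_mul]
  -- an embedding into `V` on which `x` is a multiple of `u₁`
  obtain ⟨π, hπ⟩ := hext (ρ.comp Q.subtype) (fun z hz => hω _ hz)
  obtain ⟨φ₁, hφ₁, hφπ⟩ := exists_intertwine π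
  let H : Submodule K (U →ₗ[K] V) :=
    { carrier := {φ | ∀ (q : ↥Q) y, φ (ρU q y) = ρ (q : Γ) (φ y)}
      add_mem' := fun {f g} hf hg q y => by simp only [LinearMap.add_apply, hf q y, hg q y, map_add]
      zero_mem' := fun q y => by simp
      smul_mem' := fun a f hf q y => by simp only [LinearMap.smul_apply, hf q y, map_smul] }
  have hφ₁H : φ₁ ∈ H := fun q y => by rw [hφπ, hπ]; rfl
  let Φ : Module.End K H :=
    { toFun := fun f => ⟨ρ x ∘ₗ f.1 ∘ₗ (u₁ ^ (h - 1)), fun q y => by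
        simp only [LinearMap.comp_apply]
        obtain ⟨q', rfl⟩ : ∃ q', tw q' = q := ⟨⟨x⁻¹ * q * x, by
          have := (Subgroup.mem_normalizer_iff.mp (inv_mem hxQ) q).mp q.2
          simpa using this⟩, Subtype.ext (by show x * (x⁻¹ * q * x) * x⁻¹ = q; group)⟩
        have h1 := LinearMap.congr_fun (hu₁q' q') y
        rw [Module.End.mul_apply, Module.End.mul_apply] at h1
        rw [h1, f.2 q', ← Module.End.mul_apply, ← Module.End.mul_apply (ρ ((tw q' : ↥Q) : Γ)), ← map_mul, ← map_mul]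
        congr 2
        show x * (q' : Γ) = x * q' * x⁻¹ * x
        group⟩
      map_add' := fun f g => Subtype.ext (LinearMap.ext fun y => by simp)
      map_smul' := fun a f => Subtype.ext (LinearMap.ext fun y => by simp) }
  haveI : Nontrivial H := ⟨⟨⟨φ₁, hφ₁H⟩, 0, fun e => by
    obtain ⟨y, hy⟩ := exists_ne (0 : U)
    exact hy (hφ₁ (by rw [show φ₁ = 0 from congrArg Subtype.val e]; simp))⟩⟩
  obtain ⟨μ, hμ⟩ := Module.End.exists_eigenvalue Φ
  obtain ⟨f, hf, hf0⟩ := hμ.exists_hasEigenvector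
  have hfinj : Function.Injective (f : U →ₗ[K] V) := by
    rw [← LinearMap.ker_eq_bot]
    refine (hirr _ fun q y hy => ?_).resolve_right fun e => hf0 (Subtype.ext (LinearMap.ker_eq_top.mp e))
    rw [LinearMap.mem_ker] at hy ⊢
    rw [f.2 q y, hy, map_zero]
  have hfx : ∀ y, ρ x ((f : U →ₗ[K] V) y) = μ • (f : U →ₗ[K] V) (u₁ y) := by
    intro y
    have h1 : ρ x ((f : U →ₗ[K] V) ((u₁ ^ (h - 1)) (u₁ y))) = μ • (f : U →ₗ[K] V) (u₁ y) :=
      LinearMap.congr_fun (congrArg Subtype.val (Module.End.mem_eigenspace_iff.mp hf)) (u₁ y)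
    rwa [← Module.End.mul_apply, hu₁inv', Module.End.one_apply] at h1
  set u : Module.End K U := μ • u₁ with hu
  have hfu : ∀ (n : ℕ) y, (ρ x ^ n) ((f : U →ₗ[K] V) y) = (f : U →ₗ[K] V) ((u ^ n) y) := by
    intro n
    induction n with
    | zero => intro y; rfl
    | succ n ih =>
      intro y
      rw [pow_succ, Module.End.mul_apply, hfx, ← map_smul, pow_succ, Module.End.mul_apply]
      exact ih _
  have huh : u ^ h = 1 := LinearMap.ext fun y => hfinj (by rw [← hfu, ← map_pow, hxh, map_one]; rfl)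
  have hμ0 : μ ≠ 0 := by
    rintro rfl
    rw [hu, zero_smul, zero_pow (by omega)] at huh
    exact zero_ne_one huh
  have huq : ∀ q, u * ρU q * u ^ (h - 1) = ρU (tw q) := fun q => by
    rw [show u * ρU q = ρU (tw q) * u by rw [hu, smul_mul_assoc, mul_smul_comm, hu₁q], mul_assoc,
      ← pow_succ', show h - 1 + 1 = h by omega, huh, mul_one]
  -- the permutation of the cosets
  let σ₀ : ↥Q ⧸ Z' →* ↥Q ⧸ Z' := QuotientGroup.map Z' Z' tw (fun z hz => htwZ z hz)
  have hσn : ∀ (n : ℕ) (q : ↥Q), σ₀^[n] (q : ↥Q ⧸ Z') = ((tw^[n] q : ↥Q) : ↥Q ⧸ Z') := by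
    intro n
    induction n with
    | zero => intro q; rfl
    | succ n ih => intro q; rw [Function.iterate_succ_apply', Function.iterate_succ_apply', ih]; rfl
  have hσh : ∀ g, σ₀^[h] g = g := fun g => by
    obtain ⟨q, rfl⟩ := QuotientGroup.mk_surjective g
    rw [hσn, htwh]
  let σ : Equiv.Perm (↥Q ⧸ Z') :=
    { toFun := σ₀
      invFun := σ₀^[h - 1]
      left_inv := fun g => by rw [← Function.iterate_succ_apply, show (h - 1).succ = h by omega, hσh]
      right_inv := fun g => by rw [← Function.iterate_succ_apply' σ₀, show (h - 1).succ = h by omega, hσh] }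
  have hσpow : ∀ (n : ℕ) g, (σ ^ n) g = σ₀^[n] g := fun n g => by rw [Equiv.Perm.coe_pow]; rfl
  obtain ⟨h1, h3⟩ := eigen_of_free_monomial (K := K) (U := U) (1 : ↥Q ⧸ Z') σ hh
    (HasEnoughRootsOfUnity.exists_primitiveRoot K h) hK (map_one σ₀)
    (Equiv.ext fun g => by rw [hσpow, hσh]; rfl)
    (fun i hi hih g hg => by
      obtain ⟨q, rfl⟩ := QuotientGroup.mk_surjective g
      rw [hσpow, hσn, eq_comm, QuotientGroup.eq] at hg
      refine (QuotientGroup.eq_one_iff q).mpr (hfree i hi hih q q.2 ?_)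
      have h4 : ((q⁻¹ * tw^[i] q : ↥Q) : Γ) ∈ Z := hg
      rwa [Subgroup.coe_mul, Subgroup.coe_inv, htwn] at h4)
    b hbo u huh
    (fun g => by
      obtain ⟨c', hc'⟩ := hqB (tw (r g))
      refine ⟨c', ?_⟩
      rw [hb, hb, hB, huq, hc']
      congr 2
      conv_rhs => rw [← hr g]
      rfl)
  refine ⟨finrank K U, ?_, fun hfix hlt => ?_⟩
  · rw [h1, ← Nat.card_eq_fintype_card]; rfl
  obtain ⟨h4, h5⟩ := h3 (fun y hy => by
    have e : ρ x ((f : U →ₗ[K] V) y) = (f : U →ₗ[K] V) y := by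
      have := hfu 1 y
      rwa [pow_one, pow_one, hy] at this
    exact hfinj ((hfix _ e).trans (map_zero _).symm)) (by
    rw [← Nat.card_eq_fintype_card, ← Subgroup.index_eq_card]
    refine Subgroup.one_lt_index_of_ne_top fun e => hlt.not_ge ?_
    exact Subgroup.subgroupOf_eq_top.mp e)
  refine ⟨h4, fun μ' hμ' hμ1 => ?_⟩
  obtain ⟨y, hy0, hy⟩ := h5 μ' hμ' hμ1
  refine ⟨(f : U →ₗ[K] V) y, fun e => hy0 (hfinj (e.trans (map_zero _).symm)), ?_⟩
  have := hfu 1 y
  rwa [pow_one, pow_one, hy, map_smul] at this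

end Cfsg.Agent.Grp.GrossFpf
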