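import Mathlib
import Cfsg.Agent.Lib.Grp.CyclicShift
import Cfsg.Agent.Lib.Grp.HHExceptional
import Cfsg.Agent.Lib.Grp.GrossFpf.Free

/-!
An element of order dividing `2 ^ n` without fixed vectors on the eigenspace sections of a normalized
`r`-group generated by commutators with its involution.
-/

set_option autoImplicit false
set_option linter.style.haveILetI false

namespace Cfsg.Agent.Grp.GrossFpf

open Module Cfsg.Agent.Grp Cfsg.Agent.Grp.HHExc CyclicShift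
open scoped commutatorElement

variable {K : Type*} [Field K] [IsAlgClosed K] {V : Type*} [AddCommGroup V] [Module K V]
  [FiniteDimensional K V] {Γ : Type*} [Group Γ] [Finite Γ] {ρ : Γ →* Module.End K V}

/-- On a section, either the group is in the radical or the exceptional configuration occurs, in which
every root of unity not killed by the period of the character is an eigenvalue of `s`. -/
theorem local_structure {r : ℕ} [hr : Fact r.Prime] (h2K : (2 : K) ≠ 0) (hrK : (r : K) ≠ 0)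
    {R Z : Subgroup Γ} (S : Setting 2 R Z) (hR : IsPGroup r R) {s : Γ} {n : ℕ} (hn : 1 ≤ n)
    (hs : s ^ 2 ^ n = 1) (hfix : ∀ v, ρ s v = v → v = 0) (hsR : s ∈ Subgroup.normalizer (R : Set Γ))
    (hsZ : s ∈ Subgroup.normalizer (Z : Set Γ)) (hgen : R ≤ ⁅R, Subgroup.zpowers (s ^ 2 ^ (n - 1))⁆)
    (hτZ : ∀ z ∈ Z, s ^ 2 ^ (n - 1) * z * (s ^ 2 ^ (n - 1))⁻¹ = z)
    {ω : Γ → K} (hW : chEigen ρ Z ω ≠ ⊥) :
    ∃ e : ℕ, e < n ∧ s ^ 2 ^ e ∈ stab R Z ω ∧
      (∀ a, 0 < a → a < 2 ^ e → ∃ z ∈ Z, ω (s ^ a * z * (s ^ a)⁻¹) ≠ ω z) ∧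
      (rad S hW ≠ R → ∃ d : ℕ, d + 1 = 2 ^ (n - e) ∧ d * d = (rad S hW).relIndex R ∧
        ∀ lam : K, lam ^ 2 ^ n = 1 → lam ^ 2 ^ e ≠ 1 → ∃ u, u ≠ 0 ∧ ρ s u = lam • u) := by
  classical
  haveI : NeZero (2 ^ n) := ⟨pow_ne_zero _ two_ne_zero⟩
  set τ := s ^ 2 ^ (n - 1) with hτ
  have hnZ : ∀ a : ℕ, s ^ a ∈ Subgroup.normalizer (Z : Set Γ) := fun a => Subgroup.pow_mem _ hsZ a
  have hnR : ∀ a : ℕ, s ^ a ∈ Subgroup.normalizer (R : Set Γ) := fun a => Subgroup.pow_mem _ hsR a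
  -- the period of the character
  let P : ℕ → Prop := fun a => ∀ z ∈ Z, ω (s ^ a * z * (s ^ a)⁻¹) = ω z
  have hP0 : P 0 := fun z _ => by congr 1; simp
  have hPadd : ∀ a b, P a → P b → P (a + b) := by
    intro i j hi hj z hz
    rw [← hj z hz, ← hi _ ((Subgroup.mem_normalizer_iff.mp (hnZ j) z).mp hz)]
    congr 1
    rw [pow_add]; group
  have hPmod : ∀ a, P a → P (a % 2 ^ n) := by
    intro a ha z hz
    rw [← ha z hz, ← pow_eq_pow_mod a hs]
  have hPτ : P (2 ^ (n - 1)) := fun z hz => by rw [hτZ z hz]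
  have hPex : ∃ e, P (2 ^ e) := ⟨n - 1, hPτ⟩
  set e := Nat.find hPex with he
  have hen : e ≤ n - 1 := Nat.find_min' hPex hPτ
  have hPe : P (2 ^ e) := Nat.find_spec hPex
  set N := 2 ^ e with hN
  have hmin : ∀ a, 0 < a → a < N → ¬ P a := by
    intro a ha haN hPa
    obtain ⟨i, hi, hi'⟩ := (Nat.dvd_prime_pow Nat.prime_two).mp (Nat.gcd_dvd_right a (2 ^ n))
    have hia : 2 ^ i ≤ a := hi' ▸ Nat.le_of_dvd ha (Nat.gcd_dvd_left _ _)
    have hie : i < e := (Nat.pow_lt_pow_iff_right (by norm_num)).mp (hia.trans_lt haN)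
    have h1 := period_gcd hP0 hPadd hPmod hPa
    rw [hi', Nat.mod_eq_of_lt (Nat.pow_lt_pow_right (by norm_num) (by omega))] at h1
    exact Nat.find_min hPex hie h1
  set x := s ^ N with hx
  set h := 2 ^ (n - e) with hh
  have hNh : N * h = 2 ^ n := by rw [hN, hh, ← pow_add]; congr 1; omega
  have hxh : x ^ h = 1 := by rw [hx, ← pow_mul, hNh, hs]
  have hτx : τ = x ^ 2 ^ (n - e - 1) := by
    rw [hx, hτ, ← pow_mul, hN, ← pow_add]; congr 2; omega
  set Γω := stab R Z ω with hΓω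
  have hxS : x ∈ Γω := ⟨hnR N, hnZ N, hPe⟩
  refine ⟨e, by omega, hxS, fun a ha haN => ?_, fun hne => ?_⟩
  · by_contra hc
    push Not at hc
    exact hmin a ha haN hc
  set L := rad S hW with hL
  set W := chEigen ρ Z ω with hWdef
  haveI : Nontrivial W := Submodule.nontrivial_iff_ne_bot.mpr hW
  set ρW := restr (ρ := ρ) R Z ω with hρW
  have hRS : R ≤ Γω := setting_le_stab S ω
  have hLR : L ≤ R := fun g hg => (mem_rad.mp hg).1
  -- lifting eigenvectors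
  have hlift : ∀ lam : K, lam ≠ 0 → ∀ v ∈ W, v ≠ 0 → ρ x v = lam ^ N • v →
      ∃ u, u ≠ 0 ∧ ρ s u = lam • u := by
    intro lam hlam v hv hv0 hxv
    set w : ℕ → V := fun a => (lam⁻¹) ^ a • ρ (s ^ a) v with hw
    refine ⟨∑ a ∈ Finset.range N, w a, fun hu => hv0 ?_, ?_⟩
    · have h1 := eigen_sum_eq_zero ρ Z (Finset.range N) (fun a z => ω ((s ^ a)⁻¹ * z * s ^ a)) ?_ w ?_ hu 0
        (Finset.mem_range.mpr (pow_pos two_pos e))
      · simpa [hw] using h1
      · have key : ∀ i j : ℕ, i < j → j < N →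
            (∀ z ∈ Z, ω ((s ^ i)⁻¹ * z * s ^ i) = ω ((s ^ j)⁻¹ * z * s ^ j)) → False := by
          intro i j hij hj hall
          refine hmin (j - i) (by omega) (by omega) fun z hz => ?_
          have hz' := (Subgroup.mem_normalizer_iff.mp (hnZ j) z).mp hz
          refine Eq.trans ?_ ((hall _ hz').trans ?_)
          · congr 1
            rw [show s ^ j = s ^ i * s ^ (j - i) by rw [← pow_add]; congr 1; omega]
            group
          · congr 1; group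
        intro i hi j hj hij
        by_contra hc
        push Not at hc
        rcases Nat.lt_or_ge i j with h' | h'
        · exact key i j h' (Finset.mem_range.mp hj) hc
        · exact key j i (by omega) (Finset.mem_range.mp hi) fun z hz => (hc z hz).symm
      · intro a _
        refine Submodule.smul_mem _ _ (apply_mem_chEigen ρ (hnZ a) (fun z _ => ?_) hv)
        congr 1; group
    · have hstep : ∀ a, ρ s (w a) = lam • w (a + 1) := fun a => by
        rw [hw]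
        simp only [map_smul, smul_smul]
        rw [← Module.End.mul_apply, ← map_mul, ← pow_succ', pow_succ' (lam⁻¹) a, ← mul_assoc, mul_inv_cancel₀ hlam, one_mul]
      have hwN : w N = w 0 := by
        simp only [hw, ← hx, hxv, smul_smul, pow_zero, map_one, Module.End.one_apply]
        rw [← mul_pow, inv_mul_cancel₀ hlam, one_pow]
      have hsum : ∑ a ∈ Finset.range N, w (a + 1) = ∑ a ∈ Finset.range N, w a :=
        add_right_cancel (((Finset.sum_range_succ' w N).symm.trans (Finset.sum_range_succ w N)).trans (by rw [hwN]))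
      simp only [map_sum, hstep, ← Finset.smul_sum, hsum]
  have hxfix : ∀ v : W, ρW ⟨x, hxS⟩ v = v → v = 0 := by
    intro v hv
    by_contra hv0
    obtain ⟨u, hu0, hu⟩ := hlift 1 one_ne_zero v v.2 (fun e' => hv0 (Subtype.ext e'))
      (by rw [one_pow, one_smul]; exact congrArg Subtype.val hv)
    exact hu0 (hfix u (by rw [hu, one_smul]))
  -- the radical acts by scalars
  have htriv : ∀ z ∈ Z, ∀ v ∈ W, ρ z v = ω z • v := fun z hz v hv => (mem_chEigen ρ).mp hv z hz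
  have hRcard : ∀ A : Subgroup Γ, A ≤ R → (Nat.card A : K) ≠ 0 := fun A hA => by
    obtain ⟨i, hi⟩ := (hR.to_le hA).exists_card_eq
    rw [hi, Nat.cast_pow]; exact pow_ne_zero _ hrK
  have hτS : τ ∈ Γω := hτx ▸ Subgroup.pow_mem _ hxS _
  have hxn : (⟨x, hxS⟩ : Γω) ∈ Subgroup.normalizer ((L.subgroupOf Γω : Subgroup Γω) : Set Γω) := by
    refine Subgroup.mem_normalizer_iff.mpr fun a => ⟨fun ha => conj_mem_rad (ρ := ρ) (S := S) (hW := hW) hxS ha, fun ha => ?_⟩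
    have := conj_mem_rad (ρ := ρ) (S := S) (hW := hW) (inv_mem hxS) (show x * (a : Γ) * x⁻¹ ∈ L from ha)
    show (a : Γ) ∈ L
    simpa [mul_assoc] using this
  have hcommW : ∀ a ∈ L, ∀ b ∈ L, ∀ v ∈ W, ρ a (ρ b v) = ρ b (ρ a v) := by
    intro a ha b hb v hv
    have hz : ⁅a, b⁆ ∈ Z := S.comm b (hLR hb) a (hLR ha)
    have h2 : ρ (a * b) = ρ ⁅a, b⁆ * ρ (b * a) := by
      rw [← map_mul]; congr 1; rw [commutatorElement_def]; group
    have h3 : ρ (b * a) v ∈ W := (restr (ρ := ρ) R Z ω ⟨b * a, hRS (R.mul_mem (hLR hb) (hLR ha))⟩ ⟨v, hv⟩).2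
    rw [← Module.End.mul_apply, ← map_mul, h2, Module.End.mul_apply, htriv _ hz _ h3,
      (mem_rad.mp hb).2 a (hLR ha), one_smul, map_mul, Module.End.mul_apply]
  have hfixL : ∀ l ∈ L, ∀ v ∈ W, ρ (τ⁻¹ * l * τ) v = ρ l v := by
    intro l hl v hv
    set L' := L.subgroupOf Γω with hL'
    have hL'card : (Nat.card L' : K) ≠ 0 := by
      rw [hL', Nat.card_congr (Subgroup.subgroupOfEquivOfLe (hLR.trans hRS)).toEquiv]
      exact hRcard L hLR
    have hsp := mem_span_eigen ρW L' hL'card ⊤ (fun _ _ _ _ => trivial)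
      (fun a ha b hb u _ => Subtype.ext (hcommW _ ha _ hb _ u.2))
    suffices hall : ∀ u : W, ρW (⟨τ, hτS⟩⁻¹ * ⟨l, hRS (hLR hl)⟩ * ⟨τ, hτS⟩) u = ρW ⟨l, hRS (hLR hl)⟩ u from
      congrArg Subtype.val (hall ⟨v, hv⟩)
    intro u
    induction hsp (Submodule.mem_top (x := u)) using Submodule.span_induction with
    | mem w hw =>
      have hxh' : (⟨x, hxS⟩ : Γω) ^ 2 ^ (n - e) = 1 := Subtype.ext hxh
      have hsum : ∑ b ∈ Finset.range (2 ^ (n - e)), ρW ((⟨x, hxS⟩ : Γω) ^ b) w = 0 := by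
        refine hxfix _ ?_
        rw [map_sum]
        have hstep : ∀ b, ρW ⟨x, hxS⟩ (ρW ((⟨x, hxS⟩ : Γω) ^ b) w) = ρW ((⟨x, hxS⟩ : Γω) ^ (b + 1)) w := fun b => by
          rw [← Module.End.mul_apply, ← map_mul, ← pow_succ']
        simp only [hstep]
        refine add_right_cancel ((Finset.sum_range_succ' (fun b => ρW ((⟨x, hxS⟩ : Γω) ^ b) w) _).symm.trans
          ((Finset.sum_range_succ _ _).trans ?_))
        rw [hxh', pow_zero]
      have h1 := eigen_fixed ρW Nat.prime_two (⟨x, hxS⟩ : Γω) hxh' L' hxn w hw.2 hsum ⟨l, hRS (hLR hl)⟩ hl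
      rwa [show (⟨τ, hτS⟩ : Γω) = (⟨x, hxS⟩ : Γω) ^ 2 ^ (n - e - 1) from Subtype.ext hτx]
    | zero => simp
    | add a b _ _ h1 h2 => rw [map_add, map_add, h1, h2]
    | smul c a _ h1 => rw [map_smul, map_smul, h1]
  let Lsc : Subgroup Γ :=
    { carrier := {g | g ∈ R ∧ ∃ c : K, c ≠ 0 ∧ ∀ v ∈ W, ρ g v = c • v}
      one_mem' := ⟨R.one_mem, 1, one_ne_zero, fun v _ => by simp⟩
      mul_mem' := fun {a b} ⟨ha, ca, hca, ha'⟩ ⟨hb, cb, hcb, hb'⟩ => ⟨R.mul_mem ha hb, ca * cb,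
        mul_ne_zero hca hcb, fun v hv => by
          rw [map_mul, Module.End.mul_apply, hb' v hv, map_smul, ha' v hv, smul_smul, mul_comm]⟩
      inv_mem' := fun {a} ⟨ha, ca, hca, ha'⟩ => ⟨R.inv_mem ha, ca⁻¹, inv_ne_zero hca, fun v hv => by
        have h1 := congrArg (ρ a⁻¹) (ha' v hv)
        rw [coe_inv_apply, map_smul] at h1
        conv_rhs => rw [h1, inv_smul_smul₀ hca]⟩ }
  have hω0 : ∀ z ∈ Z, ω z ≠ 0 := fun z hz => left_ne_zero_of_mul_eq_one (ch_inv ρ hW hz)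
  have hZsc : ∀ z ∈ Z, z ∈ Lsc := fun z hz => ⟨S.le hz, ω z, hω0 z hz, htriv z hz⟩
  have hscn : ∀ g ∈ Γω, ∀ l ∈ Lsc, g * l * g⁻¹ ∈ Lsc := by
    rintro g hg l ⟨hl, c, hc, hl'⟩
    refine ⟨(Subgroup.mem_normalizer_iff.mp hg.1 l).mp hl, c, hc, fun v hv => ?_⟩
    have h1 : ρ g⁻¹ v ∈ W := (restr (ρ := ρ) R Z ω ⟨g⁻¹, inv_mem hg⟩ ⟨v, hv⟩).2
    rw [map_mul, map_mul, Module.End.mul_apply, Module.End.mul_apply, hl' _ h1, map_smul, coe_apply_inv]
  have hτn : τ ∈ Subgroup.normalizer ((Lsc : Subgroup Γ) : Set Γ) := by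
    refine Subgroup.mem_normalizer_iff.mpr fun a => ⟨hscn τ hτS a, fun ha => ?_⟩
    simpa [mul_assoc] using hscn τ⁻¹ (inv_mem hτS) _ ha
  have hLsc : ∀ l ∈ L, l ∈ Lsc := by
    intro l hl
    refine mem_of_commutator_mem R Lsc τ (hnR _) hτn (fun g hg => hg.1)
      (fun a ha b hb => hZsc _ (S.comm b hb a ha)) hgen (hLR hl) ⟨?_, 1, one_ne_zero, fun v hv => ?_⟩
    · rw [show ⁅l, τ⁆ = l * (τ * l⁻¹ * τ⁻¹) by rw [commutatorElement_def]; group]
      exact R.mul_mem (hLR hl) ((Subgroup.mem_normalizer_iff.mp (hnR _) _).mp (R.inv_mem (hLR hl)))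
    · have hm : τ * l⁻¹ * τ⁻¹ ∈ L := conj_mem_rad (ρ := ρ) (S := S) (hW := hW) hτS (L.inv_mem hl)
      have h1 := hfixL _ hm v hv
      rw [show τ⁻¹ * (τ * l⁻¹ * τ⁻¹) * τ = l⁻¹ by group] at h1
      rw [one_smul, show ⁅l, τ⁆ = l * (τ * l⁻¹ * τ⁻¹) by rw [commutatorElement_def]; group, map_mul,
        Module.End.mul_apply, ← h1, coe_apply_inv]
  -- the counting theorem
  set L' := L.subgroupOf Γω with hL'
  set R' := R.subgroupOf Γω with hR'
  have hsc : ∀ l : Γω, ∃ c : K, l ∈ L' → ρW l = c • 1 := fun l => by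
    by_cases hl : l ∈ L'
    · obtain ⟨-, c, -, hc⟩ := hLsc _ hl
      exact ⟨c, fun _ => LinearMap.ext fun v => Subtype.ext (hc v v.2)⟩
    · exact ⟨0, fun h => absurd h hl⟩
  choose ω' hω' using hsc
  have hscalar : ∀ l : Γω, l ∈ L' → ∀ v : W, ρ (l : Γ) (v : V) = ω' l • (v : V) := fun l hl v => by
    have := congrArg (fun T : Module.End K W => ((T v : W) : V)) (hω' l hl)
    exact this
  obtain ⟨v₀, hv₀⟩ := exists_ne (0 : W)
  have huniq : ∀ a b : K, a • (v₀ : V) = b • (v₀ : V) → a = b := fun a b e' =>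
    smul_left_injective K (fun e'' => hv₀ (Subtype.ext e'')) e'
  have hω'Z : ∀ z : Γω, (z : Γ) ∈ Z → z ∈ L' ∧ ω' z = ω z := fun z hz => by
    have hzL : z ∈ L' := (mem_rad (ρ := ρ) (S := S) (hW := hW)).mpr ⟨S.le hz, fun t ht => by
      rw [show ⁅t, Γω.subtype z⁆ = 1 from commutatorElement_eq_one_iff_mul_comm.mpr (S.central _ hz t ht)]
      exact (ch_mul ρ hW).1⟩
    exact ⟨hzL, huniq _ _ ((hscalar z hzL v₀).symm.trans (htriv _ hz _ v₀.2))⟩
  have hh2 : 2 ≤ h := by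
    rw [hh]
    exact Nat.le_self_pow (by omega) 2
  have hhK : (h : K) ≠ 0 := by rw [hh, Nat.cast_pow]; exact pow_ne_zero _ (by exact_mod_cast h2K)
  have hτfree : ∀ g ∈ R, g⁻¹ * (τ * g * τ⁻¹) ∈ L → g ∈ L := by
    intro g hg hgL
    refine inv_mem_iff.mp (mem_of_commutator_mem R L τ (hnR _) ?_ hLR ?_ hgen (R.inv_mem hg) ?_)
    · refine Subgroup.mem_normalizer_iff.mpr fun a => ⟨fun ha => conj_mem_rad (ρ := ρ) (S := S) (hW := hW) hτS ha, fun ha => ?_⟩
      simpa [mul_assoc] using conj_mem_rad (ρ := ρ) (S := S) (hW := hW) (inv_mem hτS) ha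
    · exact fun a ha b hb => (hω'Z ⟨⁅a, b⁆, hRS (S.le (S.comm b hb a ha))⟩ (S.comm b hb a ha)).1
    · rwa [show ⁅g⁻¹, τ⁆ = g⁻¹ * (τ * g * τ⁻¹) by rw [commutatorElement_def]; group]
  obtain ⟨d, hd, hd'⟩ := hallHigman_eigen ρW R' L' (⟨x, hxS⟩ : Γω) hh2 hhK (Subtype.ext hxh)
    (Subgroup.mem_normalizer_iff.mpr fun g => Subgroup.mem_normalizer_iff.mp (hnR N) (g : Γ))
    (fun z hz => conj_mem_rad (ρ := ρ) (S := S) (hW := hW) hxS hz)
    (fun g hg t ht => (hω'Z ⁅t, g⁆ (S.comm _ hg _ ht)).1) ω'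
    (fun z hz => by
      refine huniq _ _ ?_
      have hz' : (⟨x, hxS⟩ : Γω) * z * (⟨x, hxS⟩ : Γω)⁻¹ ∈ L' := conj_mem_rad (ρ := ρ) (S := S) (hW := hW) hxS hz
      rw [← hscalar _ hz' v₀]
      show ρ (x * (z : Γ) * x⁻¹) (v₀ : V) = _
      have h1 : ρ x⁻¹ (v₀ : V) ∈ W := (restr (ρ := ρ) R Z ω ⟨x⁻¹, inv_mem hxS⟩ v₀).2
      rw [map_mul, map_mul, Module.End.mul_apply, Module.End.mul_apply, hscalar z hz ⟨_, h1⟩, map_smul,
        coe_apply_inv])
    hω'
    (fun g hg hgL => by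
      by_contra hc
      push Not at hc
      refine hgL ((mem_rad (ρ := ρ) (S := S) (hW := hW)).mpr ⟨hg, fun t ht => ?_⟩)
      have hz := S.comm (g : Γ) hg t ht
      rw [← hc ⟨t, hRS ht⟩ ht]
      exact ((hω'Z ⁅(⟨t, hRS ht⟩ : Γω), g⁆ hz).2).symm)
    (Subgroup.comap_mono hLR)
    (fun i hi hih g hg hgi => by
      let Pg : ℕ → Prop := fun i => (g : Γ)⁻¹ * (x ^ i * g * (x ^ i)⁻¹) ∈ L
      have hp0 : Pg 0 := by show _ ∈ L; simp
      have hpadd : ∀ a b, Pg a → Pg b → Pg (a + b) := by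
        intro a b ha hb
        show _ ∈ L
        have e' : (g : Γ)⁻¹ * (x ^ (a + b) * g * (x ^ (a + b))⁻¹) =
            ((g : Γ)⁻¹ * (x ^ a * g * (x ^ a)⁻¹)) * (x ^ a * ((g : Γ)⁻¹ * (x ^ b * g * (x ^ b)⁻¹)) * (x ^ a)⁻¹) := by
          rw [pow_add]; group
        rw [e']
        exact L.mul_mem ha (conj_mem_rad (ρ := ρ) (S := S) (hW := hW) (Subgroup.pow_mem _ hxS a) hb)
      have hpmod : ∀ a, Pg a → Pg (a % 2 ^ (n - e)) := by
        intro a ha
        show _ ∈ L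
        rw [← pow_eq_pow_mod a hxh]
        exact ha
      have h1 := period_prime_pow Nat.prime_two hp0 hpadd hpmod (show Pg i from hgi)
        fun hd => absurd (Nat.le_of_dvd hi hd) (by omega)
      show (g : Γ) ∈ L
      refine hτfree _ hg ?_
      rw [hτx]
      exact h1)
  obtain ⟨hdh, heig⟩ := hd' hxfix (lt_of_le_of_ne (Subgroup.comap_mono hLR) fun e' => hne (by
    have := congrArg (Subgroup.map Γω.subtype) e'
    rwa [Subgroup.map_subgroupOf_eq_of_le (hLR.trans hRS), Subgroup.map_subgroupOf_eq_of_le hRS] at this))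
  refine ⟨d, hdh, ?_, fun lam hlam hlamN => ?_⟩
  · rw [hd, hL', hR', Subgroup.relIndex_subgroupOf hRS]
  · have hlam0 : lam ≠ 0 := by
      rintro rfl
      rw [zero_pow (pow_ne_zero _ two_ne_zero)] at hlam
      exact zero_ne_one hlam
    obtain ⟨v, hv0, hv⟩ := heig (lam ^ N) (by rw [← pow_mul, hNh, hlam]) hlamN
    exact hlift lam hlam0 v v.2 (fun e' => hv0 (Subtype.ext e')) (congrArg Subtype.val hv)

end Cfsg.Agent.Grp.GrossFpf
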