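import Mathlib
import Cfsg.Agent.Lib.Grp.Coprime
import Cfsg.Agent.Lib.Grp.GrossFpf.Local
import Cfsg.Agent.S3784

/-!
The commutator part of a normalized group of class two is small modulo the intersection of the translates
of the radical of a section.
-/

set_option autoImplicit false
set_option linter.style.haveILetI false
set_option linter.unusedSectionVars false

namespace Cfsg.Agent.Grp.GrossFpf

open Module Cfsg.Agent.Grp Cfsg.Agent.Grp.HHExc CyclicShift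
open scoped commutatorElement

variable {K : Type*} [Field K] {V : Type*} [AddCommGroup V] [Module K V]
  {Γ : Type*} [Group Γ] [Finite Γ] {ρ : Γ →* Module.End K V}

/-- The elements all of whose translates under `s` lie in the radical. -/
def transRad {Y Z : Subgroup Γ} (S : Setting 2 Y Z) {ω : Γ → K} (hW : chEigen ρ Z ω ≠ ⊥) (s : Γ) :
    Subgroup Γ where
  carrier := {g | ∀ a : ℕ, (s ^ a)⁻¹ * g * s ^ a ∈ rad S hW}
  one_mem' := fun a => by simp
  mul_mem' := fun {g g'} hg hg' a => by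
    rw [show (s ^ a)⁻¹ * (g * g') * s ^ a = ((s ^ a)⁻¹ * g * s ^ a) * ((s ^ a)⁻¹ * g' * s ^ a) by group]
    exact mul_mem (hg a) (hg' a)
  inv_mem' := fun {g} hg a => by
    rw [show (s ^ a)⁻¹ * g⁻¹ * s ^ a = ((s ^ a)⁻¹ * g * s ^ a)⁻¹ by group]
    exact inv_mem (hg a)

theorem mem_transRad {Y Z : Subgroup Γ} {S : Setting 2 Y Z} {ω : Γ → K} {hW : chEigen ρ Z ω ≠ ⊥}
    {s g : Γ} : g ∈ transRad S hW s ↔ ∀ a : ℕ, (s ^ a)⁻¹ * g * s ^ a ∈ rad S hW := Iff.rfl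

theorem omega_left {Y Z : Subgroup Γ} (S : Setting 2 Y Z) {ω : Γ → K} (hW : chEigen ρ Z ω ≠ ⊥)
    {a b c : Γ} (ha : a ∈ Y) (hb : b ∈ Y) (hc : c ∈ Y) : ω ⁅a * b, c⁆ = ω ⁅a, c⁆ * ω ⁅b, c⁆ := by
  rw [show ⁅a * b, c⁆ = a * ⁅b, c⁆ * a⁻¹ * ⁅a, c⁆ by simp only [commutatorElement_def]; group,
    S.central _ (S.comm c hc b hb) a ha, mul_inv_cancel_right,
    (ch_mul ρ hW).2 _ (S.comm c hc b hb) _ (S.comm c hc a ha), mul_comm]

theorem omega_swap {Y Z : Subgroup Γ} (S : Setting 2 Y Z) {ω : Γ → K} (hW : chEigen ρ Z ω ≠ ⊥)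
    {a b : Γ} (ha : a ∈ Y) (hb : b ∈ Y) (h : ω ⁅a, b⁆ = 1) : ω ⁅b, a⁆ = 1 := by
  have := ch_inv ρ hW (S.comm b hb a ha)
  rwa [commutatorElement_inv, h, one_mul] at this

variable [IsAlgClosed K] [FiniteDimensional K V]

/-- The bound for a group generated by commutators with the involution. -/
theorem core_bound {r : ℕ} [hr : Fact r.Prime] (hr2 : r ≠ 2) (h2K : (2 : K) ≠ 0) (hrK : (r : K) ≠ 0)
    {R Z : Subgroup Γ} (S : Setting 2 R Z) (hR : IsPGroup r R) {s : Γ} {n : ℕ} (hn : 1 ≤ n)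
    (hs : s ^ 2 ^ n = 1) (hfix : ∀ v, ρ s v = v → v = 0) (hsR : s ∈ Subgroup.normalizer (R : Set Γ))
    (hsZ : s ∈ Subgroup.normalizer (Z : Set Γ)) (hgen : R ≤ ⁅R, Subgroup.zpowers (s ^ 2 ^ (n - 1))⁆)
    (hτZ : ∀ z ∈ Z, s ^ 2 ^ (n - 1) * z * (s ^ 2 ^ (n - 1))⁻¹ = z)
    (hfpfZ : ∀ z ∈ Z, s * z * s⁻¹ = z → z = 1)
    {ω : Γ → K} (hW : chEigen ρ Z ω ≠ ⊥) :
    ∃ D : ℕ, D < 2 ^ (n - 1) ∧ (transRad S hW s).relIndex R ≤ r ^ D ∧ (n ≤ 2 → D = 0) := by
  classical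
  obtain ⟨e, hen, hxS, -, hexc⟩ := local_structure h2K hrK S hR hn hs hfix hsR hsZ hgen hτZ hW
  set L := rad S hW with hL
  have hnR : ∀ a : ℕ, s ^ a ∈ Subgroup.normalizer (R : Set Γ) := fun a => Subgroup.pow_mem _ hsR a
  have hconjR : ∀ (a : ℕ) g, g ∈ R → (s ^ a)⁻¹ * g * s ^ a ∈ R := fun a g hg => by
    simpa using (Subgroup.mem_normalizer_iff.mp (inv_mem (hnR a)) g).mp hg
  by_cases hLR : L = R
  · refine ⟨0, pow_pos two_pos _, ?_, fun _ => rfl⟩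
    rw [pow_zero, Subgroup.relIndex_eq_one.mpr]
    intro g hg
    refine mem_transRad.mpr fun a => ?_
    rw [← hL, hLR]
    exact hconjR a g hg
  obtain ⟨d, hdh, hd, -⟩ := hexc hLR
  have hLle : L ≤ R := fun g hg => ((mem_rad (ρ := ρ) (S := S) (hW := hW)).mp hg).1
  have hd1 : d * d ≠ 1 := by
    rw [hd]
    exact fun e' => hLR (le_antisymm hLle (Subgroup.relIndex_eq_one.mp e'))
  obtain ⟨b, hb⟩ : ∃ b, d = r ^ b := by
    obtain ⟨i, hi⟩ := hR.exists_card_eq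
    obtain ⟨b, -, hb⟩ := (Nat.dvd_prime_pow hr.out).mp
      ((Dvd.intro d hd).trans (hi ▸ Subgroup.relIndex_dvd_card L R))
    exact ⟨b, hb⟩
  have hb0 : 1 ≤ b := by
    refine Nat.one_le_iff_ne_zero.mpr fun e' => hd1 ?_
    rw [hb, e', pow_zero, one_mul]
  obtain ⟨hb1, hk⟩ : b = 1 ∧ 2 ≤ n - e := by
    rcases Cfsg.Agent.S3784.result 2 r (n - e) b Nat.prime_two hr.out (by omega) hb0 (by rw [← hb]; omega)
      with ⟨-, h1, h2, -⟩ | ⟨h, -⟩ | ⟨h, -⟩
    · exact ⟨h1, h2.two_le⟩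
    · exact absurd h hr2
    · exfalso
      have : 2 ∣ 9 := h ▸ dvd_pow_self 2 (by omega)
      omega
  rw [hb1, pow_one] at hb
  subst hb
  set N := 2 ^ e with hN
  set h := 2 ^ (n - e) with hh
  have hNh : N * h = 2 ^ n := by rw [hN, hh, ← pow_add]; congr 1; omega
  set x := s ^ N with hx
  have hLn : (L.subgroupOf R).Normal := ⟨fun l hl g => by
    show (g : Γ) * l * (g : Γ)⁻¹ ∈ L
    exact conj_mem_rad (ρ := ρ) (S := S) (hW := hW) (setting_le_stab S ω g.2) hl⟩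
  let cj : ℕ → ↥R →* ↥R := fun a => MonoidHom.mk' (fun g => ⟨(s ^ a)⁻¹ * g * s ^ a, hconjR a g g.2⟩) fun g g' =>
    Subtype.ext (by simp only [Subgroup.coe_mul]; group)
  let F : ↥R →* (Fin N → ↥R ⧸ L.subgroupOf R) :=
    MonoidHom.pi fun a : Fin N => (QuotientGroup.mk' (L.subgroupOf R)).comp (cj a)
  have hxk : ∀ (k : ℕ) g, g ∈ L → (x ^ k)⁻¹ * g * x ^ k ∈ L := fun k g hg => by
    have := conj_mem_rad (ρ := ρ) (S := S) (hW := hW) (inv_mem (Subgroup.pow_mem _ hxS k)) hg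
    rwa [inv_inv] at this
  have hFker : F.ker = (transRad S hW s).subgroupOf R := by
    ext g
    have key : ∀ a : ℕ, (QuotientGroup.mk' (L.subgroupOf R)) (cj a g) = 1 ↔ (s ^ a)⁻¹ * (g : Γ) * s ^ a ∈ L :=
      fun a => by rw [QuotientGroup.mk'_apply, QuotientGroup.eq_one_iff]; rfl
    rw [MonoidHom.mem_ker, Subgroup.mem_subgroupOf, mem_transRad]
    constructor
    · intro hg a
      have h1 := (key (a % N)).mp (congrFun hg ⟨a % N, Nat.mod_lt _ (pow_pos two_pos e)⟩)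
      have h2 := hxk (a / N) _ h1
      rw [hx, ← pow_mul] at h2
      rw [show s ^ a = s ^ (a % N) * s ^ (N * (a / N)) by rw [← pow_add, Nat.mod_add_div]]
      convert h2 using 1
      group
    · exact fun hg => funext fun a => (key a).mpr (hg a)
  have hQb : Nat.card (↥R ⧸ L.subgroupOf R) = d ^ 2 := by
    rw [← Subgroup.index_eq_card, sq, hd]; rfl
  have hrel : (transRad S hW s).relIndex R = Nat.card F.range := by
    show ((transRad S hW s).subgroupOf R).index = _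
    rw [← hFker, Subgroup.index_ker]
  have hcodom : Nat.card (Fin N → ↥R ⧸ L.subgroupOf R) = d ^ (2 * N) := by
    rw [Nat.card_fun, hQb, Nat.card_fin, ← pow_mul]
  have hns : F.range ≠ ⊤ := by
    intro htop
    have hsurj : Function.Surjective F := MonoidHom.range_eq_top.mp htop
    haveI : NeZero N := ⟨pow_ne_zero _ two_ne_zero⟩
    obtain ⟨q, hq, hqne⟩ := SetLike.exists_of_lt (lt_of_le_of_ne hLle hLR)
    obtain ⟨t', ht', hωne⟩ : ∃ t' ∈ R, ω ⁅t', q⁆ ≠ 1 := by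
      by_contra hc
      push Not at hc
      exact hqne ((mem_rad (ρ := ρ) (S := S) (hW := hW)).mpr ⟨hq, hc⟩)
    obtain ⟨g, hg⟩ := hsurj (Pi.mulSingle (0 : Fin N) ((⟨q, hq⟩ : ↥R) : ↥R ⧸ L.subgroupOf R))
    obtain ⟨t, ht⟩ := hsurj (Pi.mulSingle (0 : Fin N) ((⟨t', ht'⟩ : ↥R) : ↥R ⧸ L.subgroupOf R))
    set z := ⁅(t : Γ), (g : Γ)⁆ with hz
    have hzZ : z ∈ Z := S.comm _ g.2 _ t.2
    have hconjZ : ∀ (i : ℕ) z, z ∈ Z → (s ^ i)⁻¹ * z * s ^ i ∈ Z := fun i z hz => by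
      simpa using (Subgroup.mem_normalizer_iff.mp (inv_mem (Subgroup.pow_mem _ hsZ i)) z).mp hz
    have hcz : ∀ a : ℕ, ω ((s ^ a)⁻¹ * z * s ^ a) = ω ⁅((cj a t : ↥R) : Γ), ((cj a g : ↥R) : Γ)⁆ := by
      intro a
      congr 1
      show _ = ⁅(s ^ a)⁻¹ * (t : Γ) * s ^ a, (s ^ a)⁻¹ * (g : Γ) * s ^ a⁆
      simp only [hz, commutatorElement_def]; group
    have hdec : ∀ (y y' : ↥R), F y = Pi.mulSingle (0 : Fin N) (y' : ↥R ⧸ L.subgroupOf R) →
        ∃ l ∈ L, (y : Γ) = y' * l := by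
      intro y y' hy
      have h3 : ((cj 0 y : ↥R) : ↥R ⧸ L.subgroupOf R) = (y' : ↥R ⧸ L.subgroupOf R) := by
        have := congrFun hy 0
        rwa [Pi.mulSingle_eq_same] at this
      have h4' : y'⁻¹ * cj 0 y ∈ L.subgroupOf R := QuotientGroup.eq.mp h3.symm
      have h4 : (y' : Γ)⁻¹ * ((s ^ 0)⁻¹ * (y : Γ) * s ^ 0) ∈ L := h4'
      exact ⟨_, h4, by rw [mul_inv_cancel_left]; simp⟩
    have hzne : ω z ≠ 1 := by
      intro h1
      obtain ⟨l, hl, el⟩ := hdec g _ hg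
      obtain ⟨l', hl', el'⟩ := hdec t _ ht
      refine hωne ?_
      have h2 : ω z = ω ⁅t', q⁆ := by
        have hlR := hLle hl
        have hl'R := hLle hl'
        have h5 : ω ⁅(t : Γ), l⁆ = 1 := ((mem_rad (ρ := ρ) (S := S) (hW := hW)).mp hl).2 _ t.2
        have h6 : ω ⁅l', q⁆ = 1 :=
          omega_swap S hW hq hl'R (((mem_rad (ρ := ρ) (S := S) (hW := hW)).mp hl').2 _ hq)
        rw [hz, el, comm_mul S t.2 hq hlR, (ch_mul ρ hW).2 _ (S.comm _ hq _ t.2) _ (S.comm _ hlR _ t.2),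
          h5, mul_one, el', omega_left S hW ht' hl'R hq, h6, mul_one]
      rw [← h2, h1]
    have hzero : ∀ a, a < N → a ≠ 0 → ω ((s ^ a)⁻¹ * z * s ^ a) = 1 := by
      intro a ha ha0
      rw [hcz a]
      have h3 : ((cj a g : ↥R) : ↥R ⧸ L.subgroupOf R) = 1 := by
        have := congrFun hg ⟨a, ha⟩
        rwa [Pi.mulSingle_eq_of_ne (fun e' => ha0 (congrArg Fin.val e'))] at this
      exact ((mem_rad (ρ := ρ) (S := S) (hW := hW)).mp ((QuotientGroup.eq_one_iff (cj a g)).mp h3)).2 _ (cj a t).2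
    -- the product of the translates of `z`
    let y : ℕ → Γ := fun k => Nat.rec (1 : Γ) (fun _ yk => (s⁻¹ * yk * s) * z) k
    have hy : ∀ k, y (k + 1) = (s ^ k)⁻¹ * z * s ^ k * y k := by
      intro k
      induction k with
      | zero => show (s⁻¹ * 1 * s) * z = _ * 1; simp
      | succ k ihk =>
        show (s⁻¹ * y (k + 1) * s) * z = _
        conv_lhs => rw [ihk]
        show _ = _ * ((s⁻¹ * y k * s) * z)
        rw [pow_succ]; group
    have hyZ : ∀ k, y k ∈ Z := by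
      intro k
      induction k with
      | zero => exact Z.one_mem
      | succ k ihk => rw [hy]; exact Z.mul_mem (hconjZ k z hzZ) ihk
    have hcy : ∀ k, ω (y k) = ∏ i ∈ Finset.range k, ω ((s ^ i)⁻¹ * z * s ^ i) := by
      intro k
      induction k with
      | zero => exact (ch_mul ρ hW).1
      | succ k ihk => rw [hy, (ch_mul ρ hW).2 _ (hconjZ k z hzZ) _ (hyZ k), ihk, Finset.prod_range_succ, mul_comm]
    have hy1 : y (2 ^ n) = 1 := by
      have h1 : y (2 ^ n + 1) = (s⁻¹ * y (2 ^ n) * s) * z := rfl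
      rw [hy, hs] at h1
      simp only [inv_one, one_mul, mul_one] at h1
      rw [← S.central z hzZ _ (S.le (hyZ (2 ^ n)))] at h1
      refine hfpfZ _ (hyZ _) ?_
      conv_lhs => rw [mul_right_cancel h1]
      group
    have hprod : ω (y (2 ^ n)) = ω z ^ h := by
      rw [hcy, ← hNh, prod_range_mul, show ω z ^ h = ∏ _b ∈ Finset.range h, ω z by
        rw [Finset.prod_const, Finset.card_range]]
      refine Finset.prod_congr rfl fun b _ => ?_
      have h1 : ∀ a, ω ((s ^ (N * b + a))⁻¹ * z * s ^ (N * b + a)) = ω ((s ^ a)⁻¹ * z * s ^ a) := by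
        intro a
        rw [← (inv_mem (Subgroup.pow_mem (stab R Z ω) hxS b)).2.2 _ (hconjZ a z hzZ)]
        congr 1
        rw [hx, ← pow_mul, add_comm, pow_add]; group
      rw [Finset.prod_congr rfl (fun a _ => h1 a), Finset.prod_eq_single_of_mem 0
        (Finset.mem_range.mpr (NeZero.pos N)) (fun a ha ha0 => hzero a (Finset.mem_range.mp ha) ha0)]
      simp
    have hzpow : ∀ k : ℕ, ω (z ^ k) = ω z ^ k := by
      intro k
      induction k with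
      | zero => simpa using (ch_mul ρ hW).1
      | succ k ihk => rw [pow_succ, (ch_mul ρ hW).2 _ (Z.pow_mem hzZ k) _ hzZ, ihk, pow_succ]
    obtain ⟨j, hj⟩ := hR ⟨z, S.le hzZ⟩
    have hj' : ω z ^ d ^ j = 1 := by
      rw [← hzpow, show z ^ d ^ j = 1 from congrArg Subtype.val hj, (ch_mul ρ hW).1]
    rw [hy1, (ch_mul ρ hW).1] at hprod
    have := pow_gcd_eq_one.mpr ⟨hj', hprod.symm⟩
    rw [Nat.Coprime.pow _ _ ((Nat.coprime_primes hr.out Nat.prime_two).mpr hr2), pow_one] at this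
    exact hzne this
  obtain ⟨i, hi, hi'⟩ := (Nat.dvd_prime_pow hr.out).mp (hcodom ▸ F.range.card_subgroup_dvd_card)
  have hlt : i < 2 * N := by
    refine lt_of_le_of_ne hi fun e' => hns (Subgroup.eq_top_of_card_eq _ ?_)
    rw [hi', e', hcodom]
  have he : e ≠ 0 := by
    intro e'
    have hN1 : N = 1 := by rw [hN, e', pow_zero]
    refine hns (MonoidHom.range_eq_top.mpr fun f => ?_)
    obtain ⟨g, hg⟩ := QuotientGroup.mk_surjective (f ⟨0, by omega⟩)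
    refine ⟨g, funext fun a => ?_⟩
    have ha : a = ⟨0, by omega⟩ := Fin.ext (by have := a.2; omega)
    subst ha
    rw [← hg]
    show ((cj 0 g : ↥R) : ↥R ⧸ L.subgroupOf R) = _
    congr 1
    exact Subtype.ext (by show (s ^ 0)⁻¹ * (g : Γ) * s ^ 0 = g; simp)
  refine ⟨2 * N - 1, ?_, ?_, fun hn2 => absurd hn2 (by omega)⟩
  · have h2 : 2 * N ≤ 2 ^ (n - 1) := by
      rw [hN, ← pow_succ']
      exact Nat.pow_le_pow_right two_pos (by omega)
    have : 1 ≤ N := Nat.one_le_two_pow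
    omega
  · rw [hrel, hi']
    exact Nat.pow_le_pow_right hr.out.pos (by omega)

/-- The commutators with the involution are small modulo the intersection of the translates of the radical. -/
theorem transRad_bound {r : ℕ} [hr : Fact r.Prime] (hr2 : r ≠ 2) (h2K : (2 : K) ≠ 0) (hrK : (r : K) ≠ 0)
    {Y Z : Subgroup Γ} (S : Setting 2 Y Z) (hY : IsPGroup r Y) {s : Γ} {n : ℕ} (hn : 1 ≤ n)
    (hs : s ^ 2 ^ n = 1) (hfix : ∀ v, ρ s v = v → v = 0) (hsY : s ∈ Subgroup.normalizer (Y : Set Γ))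
    (hsZ : s ∈ Subgroup.normalizer (Z : Set Γ))
    (hτZ : ∀ z ∈ Z, s ^ 2 ^ (n - 1) * z * (s ^ 2 ^ (n - 1))⁻¹ = z)
    (hfpfZ : ∀ z ∈ Z, s * z * s⁻¹ = z → z = 1)
    {ω : Γ → K} (hW : chEigen ρ Z ω ≠ ⊥) :
    ∃ D : ℕ, D < 2 ^ (n - 1) ∧
      (transRad S hW s).relIndex ⁅Y, Subgroup.zpowers (s ^ 2 ^ (n - 1))⁆ ≤ r ^ D ∧ (n ≤ 2 → D = 0) := by
  classical
  set τ := s ^ 2 ^ (n - 1) with hτ
  set T := Subgroup.zpowers τ with hT
  set R := ⁅Y, T⁆ with hR
  have hTY : T ≤ Subgroup.normalizer (Y : Set Γ) := Subgroup.zpowers_le.mpr (Subgroup.pow_mem _ hsY _)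
  have hRY : R ≤ Y := commutator_le_left_of_le_normalizer hTY
  haveI := Fact.mk Nat.prime_two
  have hTp : IsPGroup 2 T := by
    obtain ⟨m, -, hm⟩ := (Nat.dvd_prime_pow Nat.prime_two).mp
      (orderOf_dvd_of_pow_eq_one (show τ ^ 2 ^ 1 = 1 by
        rw [hτ, ← pow_mul, ← pow_add, show n - 1 + 1 = n by omega, hs]))
    exact IsPGroup.of_card (n := m) (by rw [hT, Nat.card_zpowers, hm])
  have hcop : (Nat.card T).Coprime (Nat.card Y) := IsPGroup.coprime_card_of_ne 2 r (Ne.symm hr2) T Y hTp hY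
  have hsol : Group.IsSolvable Y := @IsNilpotent.to_isSolvable _ _ hY.isNilpotent
  have hsR : s ∈ Subgroup.normalizer (R : Set Γ) := by
    rw [mem_normalizer_iff_smul, ← map_conj_eq_smul, hR, Subgroup.map_commutator]
    congr 1
    · rw [map_conj_eq_smul]; exact mem_normalizer_iff_smul.mp hsY
    · rw [hT, MonoidHom.map_zpowers]
      congr 1
      show s * τ * s⁻¹ = τ
      rw [hτ, (Commute.self_pow s (2 ^ (n - 1))).eq, mul_inv_cancel_right]
  have hgen : R ≤ ⁅R, T⁆ := (commutator_commutator_eq T Y hTY hcop (Or.inr hsol)).ge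
  have hS : Setting 2 R (Z ⊓ R) := ⟨inf_le_right, fun g hg t ht => Subgroup.mem_inf.mpr ⟨S.comm g (hRY hg) t (hRY ht), by
      rw [commutatorElement_def]
      exact R.mul_mem (R.mul_mem (R.mul_mem ht hg) (R.inv_mem ht)) (R.inv_mem hg)⟩,
    fun z hz g hg => S.central z hz.1 g (hRY hg), fun h => S.coprime (h.trans (Subgroup.card_dvd_of_le hRY))⟩
  have hW' : chEigen ρ (Z ⊓ R) ω ≠ ⊥ := by
    obtain ⟨v, hv, hv0⟩ := (Submodule.ne_bot_iff _).mp hW
    exact (Submodule.ne_bot_iff _).mpr ⟨v, (mem_chEigen ρ).mpr fun z hz => (mem_chEigen ρ).mp hv z hz.1, hv0⟩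
  obtain ⟨D, hD, hle, hD0⟩ := core_bound hr2 h2K hrK hS (hY.to_le hRY) hn hs hfix hsR
    (Subgroup.mem_normalizer_iff.mpr fun z => by
      rw [Subgroup.mem_inf, Subgroup.mem_inf, Subgroup.mem_normalizer_iff.mp hsZ z,
        Subgroup.mem_normalizer_iff.mp hsR z]) hgen
    (fun z hz => hτZ z hz.1) (fun z hz => hfpfZ z hz.1) hW'
  refine ⟨D, hD, le_trans ?_ hle, hD0⟩
  refine Nat.le_of_dvd (Nat.pos_of_ne_zero Subgroup.index_ne_zero_of_finite) (Subgroup.relIndex_dvd_of_le_left R ?_)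
  intro g hg
  refine mem_transRad.mpr fun a => ?_
  obtain ⟨hgR, hgc⟩ := (mem_rad (ρ := ρ) (S := hS) (hW := hW')).mp (mem_transRad.mp hg a)
  set g' := (s ^ a)⁻¹ * g * s ^ a
  refine (mem_rad (ρ := ρ) (S := S) (hW := hW)).mpr ⟨hRY hgR, fun t ht => ?_⟩
  obtain ⟨u, hu, c₀, hc₀, rfl⟩ := exists_commutator_mul_fixed T Y hTY hcop (Or.inr hsol) ht
  have hc₀Y : c₀ ∈ Y := hc₀.1
  rw [omega_left S hW (hRY hu) hc₀Y (hRY hgR), hgc u hu, one_mul]
  -- a fixed element pairs trivially with commutators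
  let Fc : Subgroup Γ :=
    { carrier := {y | y ∈ Y ∧ ω ⁅c₀, y⁆ = 1}
      one_mem' := ⟨Y.one_mem, by rw [commutatorElement_one_right, (ch_mul ρ hW).1]⟩
      mul_mem' := fun {a b} ha hb => ⟨Y.mul_mem ha.1 hb.1, by
        rw [comm_mul S hc₀Y ha.1 hb.1, (ch_mul ρ hW).2 _ (S.comm _ ha.1 _ hc₀Y) _ (S.comm _ hb.1 _ hc₀Y),
          ha.2, hb.2, one_mul]⟩
      inv_mem' := fun {a} ha => ⟨Y.inv_mem ha.1, by
        have e := congrArg ω (comm_mul S hc₀Y ha.1 (Y.inv_mem ha.1))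
        rw [mul_inv_cancel, commutatorElement_one_right, (ch_mul ρ hW).1,
          (ch_mul ρ hW).2 _ (S.comm _ ha.1 _ hc₀Y) _ (S.comm _ (Y.inv_mem ha.1) _ hc₀Y), ha.2, one_mul] at e
        exact e.symm⟩ }
  refine ((show R ≤ Fc from Subgroup.commutator_le.mpr fun y hy w hw => ⟨hRY (Subgroup.commutator_mem_commutator hy hw), ?_⟩) hgR).2
  have hwy : w * y⁻¹ * w⁻¹ ∈ Y := (Subgroup.mem_normalizer_iff.mp (hTY hw) _).mp (Y.inv_mem hy)
  have hwc : w * c₀ * w⁻¹ = c₀ := by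
    rw [Subgroup.mem_centralizer_iff.mp hc₀.2 w hw, mul_inv_cancel_right]
  have hwz : ∀ z ∈ Z, w * z * w⁻¹ = z := by
    intro z hz
    have hle' : T ≤ Subgroup.centralizer (Z : Set Γ) := Subgroup.zpowers_le.mpr
      (Subgroup.mem_centralizer_iff.mpr fun z hz => (mul_inv_eq_iff_eq_mul.mp (hτZ z hz)).symm)
    rw [← Subgroup.mem_centralizer_iff.mp (hle' hw) z hz, mul_inv_cancel_right]
  rw [show ⁅y, w⁆ = y * (w * y⁻¹ * w⁻¹) by rw [commutatorElement_def]; group, comm_mul S hc₀Y hy hwy,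
    (ch_mul ρ hW).2 _ (S.comm _ hy _ hc₀Y) _ (S.comm _ hwy _ hc₀Y)]
  conv_lhs =>
    arg 2
    rw [show ⁅c₀, w * y⁻¹ * w⁻¹⁆ = ⁅w * c₀ * w⁻¹, w * y⁻¹ * w⁻¹⁆ by rw [hwc],
      show ⁅w * c₀ * w⁻¹, w * y⁻¹ * w⁻¹⁆ = w * ⁅c₀, y⁻¹⁆ * w⁻¹ by simp only [commutatorElement_def]; group,
      hwz _ (S.comm _ (Y.inv_mem hy) _ hc₀Y)]
  rw [← (ch_mul ρ hW).2 _ (S.comm _ hy _ hc₀Y) _ (S.comm _ (Y.inv_mem hy) _ hc₀Y), ← comm_mul S hc₀Y hy (Y.inv_mem hy),
    mul_inv_cancel, commutatorElement_one_right, (ch_mul ρ hW).1]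

end Cfsg.Agent.Grp.GrossFpf
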