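import Mathlib
import Cfsg.Agent.Lib.Grp.Coprime
import Cfsg.Agent.Lib.Grp.GrossFpf.Local

/-!
An element of order dividing `2 ^ n` missing a primitive eigenvalue, and the eigenvalue one, has its
involution centralizing the normalized groups of odd prime power order.
-/

set_option autoImplicit false
set_option linter.style.haveILetI false

namespace Cfsg.Agent.Grp.GrossFpf

open Module Cfsg.Agent.Grp Cfsg.Agent.Grp.HHExc CyclicShift
open scoped commutatorElement

variable {K : Type*} [Field K] [IsAlgClosed K] {V : Type*} [AddCommGroup V] [Module K V]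
  [FiniteDimensional K V]

/-- The involution centralizes an abelian group acting faithfully. -/
theorem abelian_fixed {Γ : Type*} [Group Γ] [Finite Γ] {ρ : Γ →* Module.End K V}
    (hρ : Function.Injective ρ) {q : ℕ} [hq : Fact q.Prime] (hqK : (q : K) ≠ 0) {s : Γ} {n : ℕ}
    (hs : s ^ 2 ^ n = 1) (hfix : ∀ v, ρ s v = v → v = 0) (A : Subgroup Γ) (hA : IsPGroup q A)
    (hsA : s ∈ Subgroup.normalizer (A : Set Γ)) (hcomm : ∀ a ∈ A, ∀ b ∈ A, a * b = b * a) :
    ∀ a ∈ A, s ^ 2 ^ (n - 1) * a * (s ^ 2 ^ (n - 1))⁻¹ = a := by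
  intro a ha
  have hAcard : (Nat.card A : K) ≠ 0 := by
    obtain ⟨i, hi⟩ := hA.exists_card_eq
    rw [hi, Nat.cast_pow]; exact pow_ne_zero _ hqK
  set τ := s ^ 2 ^ (n - 1) with hτ
  have ha' : τ * a * τ⁻¹ ∈ A := (Subgroup.mem_normalizer_iff.mp (Subgroup.pow_mem _ hsA _) a).mp ha
  have hsp := mem_span_eigen ρ A hAcard ⊤ (fun _ _ _ _ => trivial)
    (fun a ha b hb v _ => by rw [← Module.End.mul_apply, ← map_mul, hcomm a ha b hb, map_mul, Module.End.mul_apply])
  apply hρ
  refine LinearMap.ext fun v => ?_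
  induction hsp (Submodule.mem_top (x := v)) using Submodule.span_induction with
  | mem w hw =>
    have hsum : ∑ b ∈ Finset.range (2 ^ n), ρ (s ^ b) w = 0 := by
      refine hfix _ ?_
      rw [map_sum]
      have hstep : ∀ b, ρ s (ρ (s ^ b) w) = ρ (s ^ (b + 1)) w := fun b => by
        rw [← Module.End.mul_apply, ← map_mul, ← pow_succ']
      simp only [hstep]
      exact add_right_cancel ((Finset.sum_range_succ' (fun b => ρ (s ^ b) w) _).symm.trans
        ((Finset.sum_range_succ _ _).trans (by rw [hs, pow_zero])))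
    have h1 := eigen_fixed ρ Nat.prime_two s hs A hsA w hw.2 hsum _ ha'
    rw [← hτ, show τ⁻¹ * (τ * a * τ⁻¹) * τ = a by group] at h1
    exact h1.symm
  | zero => simp
  | add a b _ _ h1 h2 => rw [map_add, map_add, h1, h2]
  | smul c a _ h1 => rw [map_smul, map_smul, h1]

/-- The faithful case. -/
theorem missing_fixed {Γ : Type*} [Group Γ] [Finite Γ] {ρ : Γ →* Module.End K V}
    (hρ : Function.Injective ρ) {q : ℕ} [hq : Fact q.Prime] (hq2 : q ≠ 2) (h2K : (2 : K) ≠ 0)
    (hqK : (q : K) ≠ 0) {s : Γ} {n : ℕ} (hn : 1 ≤ n) (hs : s ^ 2 ^ n = 1)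
    (hfix : ∀ v, ρ s v = v → v = 0) {lam : K} (hlam : IsPrimitiveRoot lam (2 ^ n))
    (hmiss : ∀ v, ρ s v = lam • v → v = 0) (R : Subgroup Γ) (hR : IsPGroup q R)
    (hsR : s ∈ Subgroup.normalizer (R : Set Γ)) :
    ∀ g ∈ R, s ^ 2 ^ (n - 1) * g * (s ^ 2 ^ (n - 1))⁻¹ = g := by
  classical
  induction hcard : Nat.card R using Nat.strong_induction_on generalizing R with
  | _ N₀ ih =>
  set τ := s ^ 2 ^ (n - 1) with hτ
  set T := Subgroup.zpowers τ with hT
  have hτR : τ ∈ Subgroup.normalizer (R : Set Γ) := Subgroup.pow_mem _ hsR _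
  have hTR : T ≤ Subgroup.normalizer (R : Set Γ) := Subgroup.zpowers_le.mpr hτR
  have hIH : ∀ A : Subgroup Γ, A ≤ R → A ≠ R → s ∈ Subgroup.normalizer (A : Set Γ) →
      ∀ g ∈ A, τ * g * τ⁻¹ = g := fun A hAR hne hsA => by
    refine ih _ ?_ A (hR.to_le hAR) hsA rfl
    rw [← hcard]
    exact lt_of_not_ge fun h => hne (Subgroup.eq_of_le_of_card_ge hAR h)
  have hTcent : ∀ A : Subgroup Γ, (∀ g ∈ A, τ * g * τ⁻¹ = g) → ⁅A, T⁆ = ⊥ := fun A hA => by
    rw [Subgroup.commutator_comm, Subgroup.commutator_eq_bot_iff_le_centralizer]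
    refine Subgroup.zpowers_le.mpr (Subgroup.mem_centralizer_iff.mpr fun g hg => ?_)
    exact (mul_inv_eq_iff_eq_mul.mp (hA g hg)).symm
  by_cases hgen : ⁅R, T⁆ = R
  swap
  · have hR1le : ⁅R, T⁆ ≤ R := commutator_le_left_of_le_normalizer hTR
    have hsR1 : s ∈ Subgroup.normalizer ((⁅R, T⁆ : Subgroup Γ) : Set Γ) := by
      rw [mem_normalizer_iff_smul, ← map_conj_eq_smul, Subgroup.map_commutator]
      congr 1
      · rw [map_conj_eq_smul]; exact mem_normalizer_iff_smul.mp hsR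
      · rw [hT, MonoidHom.map_zpowers]
        congr 1
        show s * τ * s⁻¹ = τ
        rw [hτ, (Commute.self_pow s (2 ^ (n - 1))).eq, mul_inv_cancel_right]
    have hTp : IsPGroup 2 T := by
      obtain ⟨m, -, hm⟩ := (Nat.dvd_prime_pow Nat.prime_two).mp
        (orderOf_dvd_of_pow_eq_one (show τ ^ 2 ^ 1 = 1 by
          rw [hτ, ← pow_mul, ← pow_add, show n - 1 + 1 = n by omega, hs]))
      exact IsPGroup.of_card (n := m) (by rw [hT, Nat.card_zpowers, hm])
    haveI := Fact.mk Nat.prime_two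
    have hcop : (Nat.card T).Coprime (Nat.card R) := IsPGroup.coprime_card_of_ne 2 q (Ne.symm hq2) T R hTp hR
    have h1 : ⁅R, T⁆ = ⊥ := by
      rw [← commutator_commutator_eq T R hTR hcop (Or.inr (@IsNilpotent.to_isSolvable _ _ hR.isNilpotent))]
      exact hTcent _ (hIH _ hR1le hgen hsR1)
    intro g hg
    have h2 : ⁅g, τ⁆ = 1 := Subgroup.mem_bot.mp (h1 ▸ Subgroup.commutator_mem_commutator hg (Subgroup.mem_zpowers τ))
    rw [commutatorElement_eq_one_iff_mul_comm] at h2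
    rw [← h2, mul_inv_cancel_right]
  by_cases hRbot : R = ⊥
  · intro g hg
    rw [hRbot, Subgroup.mem_bot] at hg
    simp [hg]
  set R' := ⁅R, R⁆ with hR'
  have hR'le : R' ≤ R := Subgroup.commutator_le.mpr fun a ha b hb => by
    rw [commutatorElement_def]
    exact R.mul_mem (R.mul_mem (R.mul_mem ha hb) (R.inv_mem ha)) (R.inv_mem hb)
  have hR'ne : R' ≠ R := by
    intro e
    haveI : Nontrivial R := (Subgroup.nontrivial_iff_ne_bot R).mpr hRbot
    haveI : Group.IsSolvable R := @IsNilpotent.to_isSolvable _ _ hR.isNilpotent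
    refine (IsSolvable.commutator_lt_top_of_nontrivial R).ne ?_
    refine Subgroup.map_injective R.subtype_injective ?_
    rw [Subgroup.map_subtype_commutator, ← hR', e, ← MonoidHom.range_eq_map, Subgroup.range_subtype]
  have hnormR' : ∀ g ∈ Subgroup.normalizer (R : Set Γ), g ∈ Subgroup.normalizer (R' : Set Γ) := by
    intro g hg
    rw [mem_normalizer_iff_smul, ← map_conj_eq_smul, hR', Subgroup.map_commutator, map_conj_eq_smul,
      mem_normalizer_iff_smul.mp hg]
  have hτR' := hTcent R' (hIH R' hR'le hR'ne (hnormR' s hsR))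
  -- the three subgroup lemma
  have hR'cent : R ≤ Subgroup.centralizer (R' : Set Γ) := by
    refine hgen.ge.trans (Subgroup.commutator_eq_bot_iff_le_centralizer.mp ?_)
    refine Subgroup.commutator_commutator_eq_bot_of_rotate ?_ ?_
    · rw [Subgroup.commutator_comm T R', hτR', Subgroup.commutator_bot_left]
    · refine le_bot_iff.mp ((Subgroup.commutator_mono ?_ le_rfl).trans_eq hτR')
      exact commutator_le_left_of_le_normalizer (fun g hg => hnormR' g (Subgroup.le_normalizer hg))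
  set Z := R ⊓ Subgroup.centralizer (R : Set Γ) with hZ
  have hR'Z : R' ≤ Z := le_inf hR'le fun c hc => Subgroup.mem_centralizer_iff.mpr fun g hg =>
    (Subgroup.mem_centralizer_iff.mp (hR'cent hg) c hc).symm
  by_cases hZtop : R ≤ Z
  · exact abelian_fixed hρ hqK hs hfix R hR hsR fun a ha b hb =>
      Subgroup.mem_centralizer_iff.mp (hZtop hb).2 a ha
  exfalso
  have hZc : ∀ z ∈ Z, ∀ g ∈ R, g * z = z * g := fun z hz g hg =>
    Subgroup.mem_centralizer_iff.mp (Subgroup.mem_inf.mp hz).2 g hg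
  have hS : Setting 2 R Z := by
    refine ⟨inf_le_left, fun g hg t ht => hR'Z (Subgroup.commutator_mem_commutator ht hg), hZc, ?_⟩
    obtain ⟨i, hi⟩ := hR.exists_card_eq
    rw [hi]
    exact fun h => hq2 ((Nat.prime_dvd_prime_iff_eq Nat.prime_two hq.out).mp (Nat.prime_two.dvd_of_dvd_pow h)).symm
  have hsZ : s ∈ Subgroup.normalizer (Z : Set Γ) := by
    rw [mem_normalizer_iff_smul]
    refine Subgroup.eq_of_le_of_card_ge ?_ (le_of_eq (card_conj_smul _ _).symm)
    rw [← map_conj_eq_smul]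
    rintro _ ⟨z, hz, rfl⟩
    refine Subgroup.mem_inf.mpr ⟨(Subgroup.mem_normalizer_iff.mp hsR z).mp (Subgroup.mem_inf.mp hz).1,
      Subgroup.mem_centralizer_iff.mpr fun g hg => ?_⟩
    have hg' : s⁻¹ * g * s ∈ R := by simpa using (Subgroup.mem_normalizer_iff.mp (inv_mem hsR) g).mp hg
    show g * (s * z * s⁻¹) = s * z * s⁻¹ * g
    calc g * (s * z * s⁻¹) = s * ((s⁻¹ * g * s) * z) * s⁻¹ := by group
      _ = s * (z * (s⁻¹ * g * s)) * s⁻¹ := by rw [hZc z hz _ hg']
      _ = _ := by group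
  have hτZ := hIH Z inf_le_left (fun e => hZtop e.ge) hsZ
  have hZcard : (Nat.card Z : K) ≠ 0 := by
    obtain ⟨i, hi⟩ := (hR.to_le (inf_le_left : Z ≤ R)).exists_card_eq
    rw [hi, Nat.cast_pow]; exact pow_ne_zero _ hqK
  obtain ⟨ω, hW, a, ha, b, hb, hab⟩ : ∃ ω : Γ → K, chEigen ρ Z ω ≠ ⊥ ∧
      ∃ a ∈ R, ∃ b ∈ R, ω ⁅a, b⁆ ≠ 1 := by
    by_contra hne
    push Not at hne
    refine hZtop (le_inf le_rfl fun b hb => Subgroup.mem_centralizer_iff.mpr fun a ha => ?_)
    rw [← commutatorElement_eq_one_iff_mul_comm]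
    apply hρ
    rw [map_one, ← LinearMap.eqLocus_eq_top, eq_top_iff,
      ← iSup_chEigen_eq_top ρ Z (fun u hu w hw => by rw [← map_mul, ← map_mul, hZc w hw u hu.1]) hZcard]
    refine iSup_le fun ω => ?_
    rcases eq_or_ne (chEigen ρ Z ω) ⊥ with hW | hW
    · rw [hW]; exact bot_le
    intro v hv
    show ρ ⁅a, b⁆ v = v
    rw [(mem_chEigen ρ).mp hv _ (hR'Z (Subgroup.commutator_mem_commutator ha hb)), hne ω hW a ha b hb, one_smul]
  obtain ⟨e, hen, -, -, hexc⟩ := local_structure h2K hqK hS hR hn hs hfix hsR hsZ hgen.ge hτZ hW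
  obtain ⟨d, -, -, heig⟩ := hexc fun e' => hab (((mem_rad (ρ := ρ) (S := hS) (hW := hW)).mp (show b ∈ rad hS hW from e'.symm ▸ hb)).2 a ha)
  obtain ⟨u, hu0, hu⟩ := heig lam hlam.pow_eq_one
    (hlam.pow_ne_one_of_pos_of_lt (pow_ne_zero _ two_ne_zero) (Nat.pow_lt_pow_right (by norm_num) hen))
  exact hu0 (hmiss u hu)

/-- The involution acts trivially on the image of a normalized group of odd prime power order. -/
theorem missing_trivial {Γ : Type*} [Group Γ] [Finite Γ] (ρ : Γ →* Module.End K V)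
    {q : ℕ} [hq : Fact q.Prime] (hq2 : q ≠ 2) (h2K : (2 : K) ≠ 0)
    (hqK : (q : K) ≠ 0) {s : Γ} {n : ℕ} (hn : 1 ≤ n) (hs : s ^ 2 ^ n = 1)
    (hfix : ∀ v, ρ s v = v → v = 0) {lam : K} (hlam : IsPrimitiveRoot lam (2 ^ n))
    (hmiss : ∀ v, ρ s v = lam • v → v = 0) (R : Subgroup Γ) (hR : IsPGroup q R)
    (hsR : s ∈ Subgroup.normalizer (R : Set Γ)) :
    ∀ g ∈ R, ρ (s ^ 2 ^ (n - 1) * g * (s ^ 2 ^ (n - 1))⁻¹) = ρ g := by
  intro g hg
  let φ := ρ.toHomUnits
  let f := φ.rangeRestrict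
  let ρ' : ↥φ.range →* Module.End K V := (Units.coeHom _).comp φ.range.subtype
  haveI : Finite ↥φ.range := Finite.of_surjective f φ.rangeRestrict_surjective
  have h1 := missing_fixed (ρ := ρ') (fun a b e => Subtype.ext (Units.ext e)) hq2 h2K hqK (s := f s) hn
    (by rw [← map_pow, hs, map_one]) (fun v hv => hfix v hv) hlam (fun v hv => hmiss v hv) (R.map f) (hR.map f)
    (Subgroup.le_normalizer_map f ⟨s, hsR, rfl⟩) (f g) ⟨g, hg, rfl⟩
  rw [← map_pow, ← map_inv, ← map_mul, ← map_mul] at h1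
  exact congrArg ρ' h1

end Cfsg.Agent.Grp.GrossFpf
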