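import Mathlib
import Cfsg.Agent.Lib.Grp.HHPLength
import Cfsg.Agent.Lib.Invol.Critical
import Cfsg.Agent.Lib.Grp.GrossFpf.Missing
import Cfsg.Agent.Lib.Grp.GrossFpf.Bound

/-!
A normalized `r`-group with a fixed-point-free operator on a faithful module is centralized by the
involution for small orders, and in general by the commutators of the involution with a normalized
`q`-group.
-/

set_option autoImplicit false
set_option linter.style.haveILetI false
set_option linter.unusedSectionVars false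

namespace Cfsg.Agent.Grp.GrossFpf

open Module Subgroup Cfsg.Agent.Grp Cfsg.Agent.Grp.HHExc
open scoped commutatorElement TensorProduct

universe u

variable {K : Type*} [Field K] [IsAlgClosed K] {V : Type*} [AddCommGroup V] [Module K V]
  [FiniteDimensional K V] {Γ : Type u} [Group Γ] [Finite Γ] {ρ : Γ →* Module.End K V}

/-- Normalizing elements normalize the characteristic subgroups. -/
theorem mem_normalizer_map_characteristic {P : Subgroup Γ} (H : Subgroup P) [hH : H.Characteristic] {g : Γ}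
    (hg : g ∈ normalizer (P : Set Γ)) : g ∈ normalizer ((H.map P.subtype : Subgroup Γ) : Set Γ) := by
  have key : ∀ g : Γ, g ∈ normalizer (P : Set Γ) → ∀ x ∈ H.map P.subtype, g * x * g⁻¹ ∈ H.map P.subtype := by
    rintro g hg _ ⟨h, hh, rfl⟩
    let a : MulAut P := P.normalizerMonoidHom ⟨g, hg⟩
    refine ⟨a h, ?_, rfl⟩
    rw [← Subgroup.characteristic_iff_map_eq.mp hH a]
    exact ⟨h, hh, rfl⟩
  refine mem_normalizer_iff.mpr fun x => ⟨key g hg x, fun hx => ?_⟩
  simpa [mul_assoc] using key g⁻¹ (inv_mem hg) _ hx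

/-- The critical frame of a normalized `r`-group acting faithfully. -/
theorem exists_frame (hρ : Function.Injective ρ) {r : ℕ} [hr : Fact r.Prime] (hr2 : r ≠ 2)
    (hrK : (r : K) ≠ 0) {s : Γ} {n : ℕ} (hs : s ^ 2 ^ n = 1) (hfix : ∀ v, ρ s v = v → v = 0)
    (P : Subgroup Γ) (hP : IsPGroup r P) (hsP : s ∈ normalizer (P : Set Γ)) :
    ∃ Y Z : Subgroup Γ, ∃ S : Setting 2 Y Z, IsPGroup r Y ∧ Y ≤ P ∧
      (∀ g ∈ normalizer (P : Set Γ), g ∈ normalizer (Y : Set Γ) ∧ g ∈ normalizer (Z : Set Γ)) ∧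
      (∀ u ∈ Y, u ^ r ∈ Z) ∧ (∀ z ∈ Z, s ^ 2 ^ (n - 1) * z * (s ^ 2 ^ (n - 1))⁻¹ = z) ∧
      ∀ x ∈ normalizer (P : Set Γ), (orderOf x).Coprime r → (∀ z ∈ Z, x * z * x⁻¹ = z) →
        (∀ (ω : Γ → K) (hW : chEigen ρ Z ω ≠ ⊥), ∀ u ∈ Y, u⁻¹ * (x * u * x⁻¹) ∈ rad S hW) →
        ∀ u ∈ P, x * u * x⁻¹ = u := by
  classical
  obtain ⟨H, hHc, hHcomm, hHpow, hHcent⟩ := Cfsg.Agent.Invol.exists_critical hP
  haveI := hHc
  haveI : (H ⊓ centralizer (H : Set P)).Characteristic := by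
    refine Subgroup.characteristic_iff_comap_eq.mpr fun φ => ?_
    rw [Subgroup.comap_inf, Subgroup.Characteristic.fixed (H := H) inferInstance φ,
      Subgroup.Characteristic.fixed (H := centralizer (H : Set P)) inferInstance φ]
  set Y := H.map P.subtype with hYdef
  set Z := (H ⊓ centralizer (H : Set P)).map P.subtype with hZdef
  have hYP : Y ≤ P := map_subtype_le _
  have hYp : IsPGroup r Y := hP.to_le hYP
  have hS : Setting 2 Y Z := by
    refine ⟨map_mono inf_le_left, ?_, ?_, ?_⟩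
    · rintro _ ⟨g, hg, rfl⟩ _ ⟨t, ht, rfl⟩
      exact ⟨⁅t, g⁆, hHcomm (commutator_mem_commutator ht (mem_top g)), by simp [commutatorElement_def]⟩
    · rintro _ ⟨z, hz, rfl⟩ _ ⟨g, hg, rfl⟩
      exact congrArg Subtype.val (mem_centralizer_iff.mp hz.2 g hg)
    · obtain ⟨e, he⟩ := IsPGroup.iff_card.mp hYp
      rw [he]
      exact fun h => hr2 ((Nat.prime_dvd_prime_iff_eq Nat.prime_two hr.out).mp (Nat.prime_two.dvd_of_dvd_pow h)).symm
  have hZY : Z ≤ Y := hS.le
  have hnorm : ∀ g ∈ normalizer (P : Set Γ), g ∈ normalizer (Y : Set Γ) ∧ g ∈ normalizer (Z : Set Γ) :=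
    fun g hg => ⟨mem_normalizer_map_characteristic H hg, mem_normalizer_map_characteristic _ hg⟩
  refine ⟨Y, Z, hS, hYp, hYP, hnorm, ?_, ?_, ?_⟩
  · rintro _ ⟨a, ha, rfl⟩
    exact ⟨a ^ r, hHpow a ha, by simp⟩
  · exact abelian_fixed hρ hrK hs hfix Z (hYp.to_le hZY) (hnorm s hsP).2
      fun a ha b hb => (hS.central a ha b (hZY hb)).symm
  intro x hxP hord hZfix hrad
  have hxY := (hnorm x hxP).1
  have hZcard : (Nat.card Z : K) ≠ 0 := by
    obtain ⟨i, hi⟩ := (hYp.to_le hZY).exists_card_eq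
    rw [hi, Nat.cast_pow]; exact pow_ne_zero _ hrK
  have htop := iSup_chEigen_eq_top ρ Z (fun a ha d hd => by
    rw [← map_mul, ← map_mul, hS.central d hd a (hS.le ha)]) hZcard
  have hmod : ∀ u ∈ Y, u⁻¹ * (x * u * x⁻¹) ∈ Z := fun u hu => by
    set d := u⁻¹ * (x * u * x⁻¹) with hd
    have hdY : d ∈ Y := Y.mul_mem (Y.inv_mem hu) ((mem_normalizer_iff.mp hxY u).mp hu)
    obtain ⟨d', hd'H, hd'⟩ := hdY
    refine ⟨d', ⟨hd'H, mem_centralizer_iff.mpr fun g hg => Subtype.ext ?_⟩, hd'⟩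
    show (g : Γ) * d' = d' * g
    rw [← commutatorElement_eq_one_iff_mul_comm]
    apply hρ
    rw [map_one, ← LinearMap.eqLocus_eq_top, eq_top_iff, ← htop]
    refine iSup_le fun ω => ?_
    rcases eq_or_ne (chEigen ρ Z ω) ⊥ with hb | hW
    · rw [hb]; exact bot_le
    intro v hv
    have hgY : (g : Γ) ∈ Y := ⟨g, hg, rfl⟩
    obtain ⟨h1, h2⟩ := (mem_rad (ρ := ρ) (S := hS) (hW := hW)).mp (hrad ω hW u hu)
    show ρ ⁅(g : Γ), (d' : Γ)⁆ v = v
    rw [show (d' : Γ) = d from hd', (mem_chEigen ρ).mp hv _ (hS.comm _ h1 _ hgY), h2 _ hgY, one_smul]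
  have hYfix : ∀ u ∈ Y, x * u * x⁻¹ = u := fun u hu => by
    set d := u⁻¹ * (x * u * x⁻¹) with hd
    have hdZ := hmod u hu
    have hpow : ∀ i : ℕ, x ^ i * u * (x ^ i)⁻¹ = u * d ^ i := by
      intro i
      induction i with
      | zero => simp
      | succ i ih =>
        have h1 : x * d ^ i * x⁻¹ = d ^ i := hZfix _ (Z.pow_mem hdZ i)
        calc x ^ (i + 1) * u * (x ^ (i + 1))⁻¹ = x * (x ^ i * u * (x ^ i)⁻¹) * x⁻¹ := by rw [pow_succ']; group
          _ = (x * u * x⁻¹) * (x * d ^ i * x⁻¹) := by rw [ih]; group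
          _ = u * d ^ (i + 1) := by
            rw [h1, pow_succ', ← mul_assoc u, show x * u * x⁻¹ = u * d by rw [hd]; group]
    have h1 := hpow (orderOf x)
    rw [pow_orderOf_eq_one, one_mul, inv_one, mul_one, left_eq_mul] at h1
    obtain ⟨b, hb⟩ := hP ⟨d, hYP (hS.le hdZ)⟩
    have hb' : d ^ r ^ b = 1 := congrArg Subtype.val hb
    have : d = 1 := by
      have := pow_gcd_eq_one.mpr ⟨h1, hb'⟩
      rwa [hord.pow_right b, pow_one] at this
    calc x * u * x⁻¹ = u * d := by rw [hd]; group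
      _ = u := by rw [this, mul_one]
  intro u hu
  let a : MulAut P := P.normalizerMonoidHom ⟨x, hxP⟩
  have hord' : (orderOf a).Coprime r := by
    refine Nat.Coprime.coprime_dvd_left ((orderOf_map_dvd _ _).trans ?_) hord
    exact dvd_of_eq (Subgroup.orderOf_coe (⟨x, hxP⟩ : normalizer (P : Set Γ))).symm
  have ha1 : a = 1 := Cfsg.Agent.Invol.aut_eq_one_of_fixed hP hHcent hord' fun y hy =>
    Subtype.ext (hYfix y ⟨y, hy, rfl⟩)
  exact congrArg (fun e : MulAut P => ((e ⟨u, hu⟩ : P) : Γ)) ha1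

/-- For order at most four the involution centralizes `P`. -/
theorem involution_centralizes (hρ : Function.Injective ρ) {r : ℕ} [hr : Fact r.Prime] (hr2 : r ≠ 2)
    (h2K : (2 : K) ≠ 0) (hrK : (r : K) ≠ 0) {s : Γ} {n : ℕ} (hn : 1 ≤ n) (hn2 : n ≤ 2) (hs : s ^ 2 ^ n = 1)
    (hfix : ∀ v, ρ s v = v → v = 0) (P : Subgroup Γ) (hP : IsPGroup r P) (hsP : s ∈ normalizer (P : Set Γ))
    (hfpf : ∀ g ∈ P, s * g * s⁻¹ = g → g = 1) :
    ∀ u ∈ P, s ^ 2 ^ (n - 1) * u * (s ^ 2 ^ (n - 1))⁻¹ = u := by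
  classical
  obtain ⟨Y, Z, S, hYp, hYP, hnorm, -, hτZ, hmain⟩ := exists_frame hρ hr2 hrK hs hfix P hP hsP
  set τ := s ^ 2 ^ (n - 1) with hτ
  refine hmain τ (Subgroup.pow_mem _ hsP _) ?_ hτZ fun ω hW u hu => ?_
  · refine Nat.Coprime.coprime_dvd_left (orderOf_dvd_of_pow_eq_one (n := 2) ?_)
      ((Nat.coprime_primes Nat.prime_two hr.out).mpr (Ne.symm hr2))
    rw [hτ, ← pow_mul, ← pow_succ, show n - 1 + 1 = n by omega, hs]
  obtain ⟨D, -, hle, hD0⟩ := transRad_bound hr2 h2K hrK S hYp hn hs hfix (hnorm s hsP).1 (hnorm s hsP).2 hτZ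
    (fun z hz => hfpf z (hYP (S.le hz))) hW
  rw [hD0 hn2, pow_zero] at hle
  set R := ⁅Y, zpowers τ⁆
  have hRE : R ≤ transRad S hW s := Subgroup.relIndex_eq_one.mp
    (le_antisymm hle (Nat.pos_of_ne_zero Subgroup.index_ne_zero_of_finite))
  have h1 := mem_transRad.mp (hRE (commutator_mem_commutator (Y.inv_mem hu) (mem_zpowers τ))) 0
  rwa [show (s ^ 0)⁻¹ * ⁅u⁻¹, τ⁆ * s ^ 0 = u⁻¹ * (τ * u * τ⁻¹) by simp [commutatorElement_def, mul_assoc]] at h1

/-- The commutators of a normalized `q`-group with the involution centralize `P`. -/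
theorem commutator_centralizes_second (hρ : Function.Injective ρ) {r q : ℕ} [hr : Fact r.Prime]
    [hq : Fact q.Prime] (hr2 : r ≠ 2) (hq2 : q ≠ 2) (hqr : q ≠ r) (h2K : (2 : K) ≠ 0) (hrK : (r : K) ≠ 0)
    {s : Γ} {n : ℕ} (hn : 1 ≤ n) (hs : s ^ 2 ^ n = 1) (hfix : ∀ v, ρ s v = v → v = 0)
    (P : Subgroup Γ) (hP : IsPGroup r P) (hsP : s ∈ normalizer (P : Set Γ))
    (hfpf : ∀ g ∈ P, s * g * s⁻¹ = g → g = 1) (Q : Subgroup Γ) (hQ : IsPGroup q Q)
    (hsQ : s ∈ normalizer (Q : Set Γ)) (hQP : Q ≤ normalizer (P : Set Γ)) :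
    ∀ x ∈ ⁅Q, zpowers (s ^ 2 ^ (n - 1))⁆, ∀ u ∈ P, x * u * x⁻¹ = u := by
  classical
  obtain ⟨Y, Z, S, hYp, hYP, hnorm, hYr, hτZ, hmain⟩ := exists_frame hρ hr2 hrK hs hfix P hP hsP
  set τ := s ^ 2 ^ (n - 1) with hτ
  set T := zpowers τ with hT
  set Q1 := ⁅Q, T⁆ with hQ1
  haveI := Fact.mk Nat.prime_two
  have hτP : τ ∈ normalizer (P : Set Γ) := Subgroup.pow_mem _ hsP _
  have hTQ : T ≤ normalizer (Q : Set Γ) := zpowers_le.mpr (Subgroup.pow_mem _ hsQ _)
  have hQ1Q : Q1 ≤ Q := commutator_le_left_of_le_normalizer hTQ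
  have hQ1P : Q1 ≤ normalizer (P : Set Γ) := hQ1Q.trans hQP
  have hTp : IsPGroup 2 T := by
    obtain ⟨m, -, hm⟩ := (Nat.dvd_prime_pow Nat.prime_two).mp
      (orderOf_dvd_of_pow_eq_one (show τ ^ 2 ^ 1 = 1 by
        rw [hτ, ← pow_mul, ← pow_add, show n - 1 + 1 = n by omega, hs]))
    exact IsPGroup.of_card (n := m) (by rw [hT, Nat.card_zpowers, hm])
  have hcopT : (Nat.card T).Coprime (Nat.card Q) := IsPGroup.coprime_card_of_ne 2 q (Ne.symm hq2) T Q hTp hQ
  have hgen1 : Q1 ≤ ⁅Q1, T⁆ :=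
    (commutator_commutator_eq T Q hTQ hcopT (Or.inr (@IsNilpotent.to_isSolvable _ _ hQ.isNilpotent))).ge
  have hsQ1 : s ∈ normalizer (Q1 : Set Γ) := by
    rw [mem_normalizer_iff_smul, ← map_conj_eq_smul, hQ1, Subgroup.map_commutator]
    congr 1
    · rw [map_conj_eq_smul]; exact mem_normalizer_iff_smul.mp hsQ
    · rw [hT, MonoidHom.map_zpowers]
      congr 1
      show s * τ * s⁻¹ = τ
      rw [hτ, (Commute.self_pow s (2 ^ (n - 1))).eq, mul_inv_cancel_right]
  -- `[Q, τ]` fixes `Z` pointwise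
  have hfixZ : ∀ x ∈ Q1, ∀ z ∈ Z, x * z * x⁻¹ = z := by
    let C : Subgroup Γ := centralizer (Z : Set Γ)
    have hCmem : ∀ x, x ∈ C → ∀ z ∈ Z, x * z * x⁻¹ = z := fun x hx z hz => by
      rw [← mem_centralizer_iff.mp hx z hz, mul_inv_cancel_right]
    have hTC : T ≤ C := zpowers_le.mpr
      (mem_centralizer_iff.mpr fun z hz => (mul_inv_eq_iff_eq_mul.mp (hτZ z hz)).symm)
    refine fun x hx => hCmem x ((Subgroup.commutator_le.mpr fun g hg t ht => ?_ : Q1 ≤ C) hx)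
    rw [commutatorElement_def]
    refine C.mul_mem (mem_centralizer_iff.mpr fun z hz => ?_) (C.inv_mem (hTC ht))
    have hgZ := (hnorm g (hQP hg)).2
    have hz' : g⁻¹ * z * g ∈ Z := by simpa using (mem_normalizer_iff.mp (inv_mem hgZ) z).mp hz
    calc z * (g * t * g⁻¹) = g * ((g⁻¹ * z * g) * t) * g⁻¹ := by group
      _ = g * (t * (g⁻¹ * z * g)) * g⁻¹ := by rw [mem_centralizer_iff.mp (hTC ht) _ hz']
      _ = g * t * g⁻¹ * z := by group
  intro x₀ hx₀
  refine hmain x₀ (hQ1P hx₀) ?_ (hfixZ x₀ hx₀) fun ω hW u hu => ?_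
  · obtain ⟨k, hk⟩ := hQ ⟨x₀, hQ1Q hx₀⟩
    have hk' : x₀ ^ q ^ k = 1 := congrArg Subtype.val hk
    exact Nat.Coprime.coprime_dvd_left (orderOf_dvd_of_pow_eq_one hk')
      (((Nat.coprime_primes hq.out hr.out).mpr hqr).pow_left k)
  obtain ⟨D, hD, hle, -⟩ := transRad_bound hr2 h2K hrK S hYp hn hs hfix (hnorm s hsP).1 (hnorm s hsP).2 hτZ
    (fun z hz => hfpf z (hYP (S.le hz))) hW
  set E := transRad S hW s with hE
  have hEY : E ≤ Y := fun g hg => by simpa using ((mem_rad (ρ := ρ) (S := S) (hW := hW)).mp (mem_transRad.mp hg 0)).1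
  have hradZ : ∀ z ∈ Z, z ∈ rad S hW := fun z hz => (mem_rad (ρ := ρ) (S := S) (hW := hW)).mpr ⟨S.le hz, fun t ht => by
    rw [commutatorElement_eq_one_iff_mul_comm.mpr (S.central z hz t ht)]; exact (ch_mul ρ hW).1⟩
  have hZE : Z ≤ E := fun z hz => mem_transRad.mpr fun a => hradZ _ (by
    simpa using (mem_normalizer_iff.mp (inv_mem (Subgroup.pow_mem _ (hnorm s hsP).2 a)) z).mp hz)
  -- elements acting on the section
  have hEs : ∀ g ∈ E, s * g * s⁻¹ ∈ E := fun g hg => mem_transRad.mpr fun a => by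
    have hps : s ^ (2 ^ n - 1) = s⁻¹ := by
      rw [eq_inv_iff_mul_eq_one, ← pow_succ, show 2 ^ n - 1 + 1 = 2 ^ n by
        have := Nat.one_le_two_pow (n := n); omega, hs]
    have h1 := mem_transRad.mp hg (a + (2 ^ n - 1))
    rw [pow_add, hps, (Commute.pow_self s a).inv_right.eq] at h1
    convert h1 using 1
    group
  have hQ1E : ∀ x ∈ Q1, ∀ g ∈ E, x * g * x⁻¹ ∈ E := fun x hx g hg => mem_transRad.mpr fun a => by
    have hxa : (s ^ a)⁻¹ * x * s ^ a ∈ Q1 := by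
      simpa using (mem_normalizer_iff.mp (inv_mem (Subgroup.pow_mem _ hsQ1 a)) x).mp hx
    have hst : (s ^ a)⁻¹ * x * s ^ a ∈ stab Y Z ω :=
      ⟨(hnorm _ (hQ1P hxa)).1, (hnorm _ (hQ1P hxa)).2, fun z hz => by rw [hfixZ _ hxa z hz]⟩
    have h1 := conj_mem_rad (ρ := ρ) (S := S) (hW := hW) hst (mem_transRad.mp hg a)
    convert h1 using 1
    group
  let M : Subgroup Γ := normalizer (Y : Set Γ) ⊓ normalizer (E : Set Γ)
  have hnE : ∀ x, (∀ g ∈ E, x * g * x⁻¹ ∈ E) → x ∈ normalizer (E : Set Γ) := fun x hx => by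
    rw [mem_normalizer_iff_smul]
    refine Subgroup.eq_of_le_of_card_ge ?_ (le_of_eq (card_conj_smul _ _).symm)
    rw [← map_conj_eq_smul]
    rintro _ ⟨g, hg, rfl⟩
    exact hx g hg
  have hsM : s ∈ M := Subgroup.mem_inf.mpr ⟨(hnorm s hsP).1, hnE s hEs⟩
  have hQ1M : Q1 ≤ M := fun x hx => Subgroup.mem_inf.mpr ⟨(hnorm x (hQ1P hx)).1, hnE x (hQ1E x hx)⟩
  obtain ⟨S', _, _, f, σ, hfs, hfk, hσ⟩ := Cfsg.Agent.Grp.HHP.exists_section_action M Y E hEY
    (fun a ha b hb => hZE (S.comm b hb a ha)) (fun d hd => hd.1)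
    (fun d hd a ha => (mem_normalizer_iff.mp hd.2 a).mp ha)
  haveI : Module (ZMod r) (Additive S') := AddCommGroup.zmodModule (fun w => by
    refine Additive.toMul.injective ?_
    obtain ⟨a, ha⟩ := hfs (Additive.toMul w)
    rw [toMul_nsmul, toMul_zero, ← ha, ← map_pow, ← MonoidHom.mem_ker, hfk]
    exact hZE (hYr _ a.2))
  let ρM : M →* Module.End (ZMod r) (Additive S') :=
    { toFun := fun g => (σ g).toMonoidHom.toAdditive.toZModLinearMap r
      map_one' := LinearMap.ext fun w => by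
        show Additive.ofMul (σ 1 (Additive.toMul w)) = w
        rw [map_one]; rfl
      map_mul' := fun g g' => LinearMap.ext fun w => by
        show Additive.ofMul (σ (g * g') (Additive.toMul w)) = Additive.ofMul (σ g (σ g' (Additive.toMul w)))
        rw [map_mul]; rfl }
  haveI : Module.Finite (ZMod r) (Additive S') := Module.Finite.of_finite
  let K' := AlgebraicClosure (ZMod r)
  haveI : CharP K' r := charP_of_injective_algebraMap (algebraMap (ZMod r) K').injective r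
  have hcast : ∀ l : ℕ, l.Prime → r ≠ l → (l : K') ≠ 0 := fun l hl hne e =>
    hne ((Nat.prime_dvd_prime_iff_eq hr.out hl).mp ((CharP.cast_eq_zero_iff K' r l).mp e))
  have h2K' : (2 : K') ≠ 0 := by exact_mod_cast hcast 2 Nat.prime_two hr2
  let bc := Module.End.baseChangeHom (ZMod r) K' (Additive S')
  let ρK : M →* Module.End K' (K' ⊗[ZMod r] Additive S') := bc.toMonoidHom.comp ρM
  set sM : M := ⟨s, hsM⟩ with hsMdef
  have hsMn : sM ^ 2 ^ n = 1 := Subtype.ext hs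
  -- `s` has no fixed points on the section
  have hfix₀ : ∀ w : Additive S', ρM sM w = w → w = 0 := by
    intro w hw
    refine Additive.toMul.injective ?_
    obtain ⟨a, ha⟩ := hfs (Additive.toMul w)
    rw [toMul_zero, ← ha, ← MonoidHom.mem_ker, hfk]
    have ha' : s * (a : Γ) * s⁻¹ ∈ Y := (mem_normalizer_iff.mp hsM.1 a).mp a.2
    have h1 : f ⟨_, ha'⟩ = f a := by
      rw [← hσ sM a ⟨_, ha'⟩ rfl, ha]
      exact congrArg Additive.toMul hw
    have h2 : s * (a : Γ) * s⁻¹ * (a : Γ)⁻¹ ∈ E := by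
      have h3 : (⟨_, ha'⟩ : Y) * a⁻¹ ∈ f.ker := by rw [MonoidHom.mem_ker, map_mul, map_inv, h1, mul_inv_cancel]
      rw [hfk] at h3
      exact h3
    set A := zpowers s with hA
    have hsp : IsPGroup 2 A := by
      obtain ⟨m, -, hm⟩ := (Nat.dvd_prime_pow Nat.prime_two).mp (orderOf_dvd_of_pow_eq_one hs)
      exact IsPGroup.of_card (n := m) (by rw [hA, Nat.card_zpowers, hm])
    have hcA : (Nat.card A).Coprime (Nat.card Y) := IsPGroup.coprime_card_of_ne 2 r (Ne.symm hr2) A Y hsp hYp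
    have hYE : Y ≤ normalizer (E : Set Γ) := fun b hb => hnE b fun g hg => by
      have h4 := E.mul_mem (hZE (S.comm g (hEY hg) b hb)) hg
      rwa [commutatorElement_def, inv_mul_cancel_right] at h4
    obtain ⟨c, hc, hcN⟩ := exists_fixed_rep A Y E (zpowers_le.mpr hsM.1) (inf_eq_bot_of_coprime hcA)
      (hcA.coprime_dvd_right (card_dvd_of_le hEY)) (Or.inl (Group.isSolvable_of_comm mul_comm')) hEY hYE
      (zpowers_le.mpr hsM.2) a.2 (by
        intro b hb
        obtain ⟨i, rfl⟩ := mem_powers_iff_mem_zpowers.mpr hb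
        show s ^ i * (a : Γ) * (s ^ i)⁻¹ * (a : Γ)⁻¹ ∈ E
        clear hb
        induction i with
        | zero => simp
        | succ i ih =>
          rw [show s ^ (i + 1) * (a : Γ) * (s ^ (i + 1))⁻¹ * (a : Γ)⁻¹ =
            (s * (s ^ i * (a : Γ) * (s ^ i)⁻¹ * (a : Γ)⁻¹) * s⁻¹) * (s * (a : Γ) * s⁻¹ * (a : Γ)⁻¹) by
              rw [pow_succ']; group]
          exact E.mul_mem (hEs _ ih) h2)
    have hc1 : c = 1 := hfpf c (hYP hc.1) (by
      rw [mem_centralizer_iff.mp hc.2 s (mem_zpowers s), mul_inv_cancel_right])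
    rw [hc1, mul_one] at hcN
    exact inv_mem_iff.mp hcN
  have hfixK : ∀ v, ρK sM v = v → v = 0 := by
    intro v hv
    have hS0 : ∑ i ∈ Finset.range (2 ^ n), (ρM sM) ^ i = 0 := by
      refine LinearMap.ext fun w => hfix₀ _ ?_
      have e2 := mul_geom_sum (ρM sM) (2 ^ n)
      rw [← map_pow, hsMn, map_one, sub_self, sub_mul, one_mul, sub_eq_zero] at e2
      rw [← Module.End.mul_apply, e2]
    have e3 := congrArg (fun T => (bc T) v) hS0
    simp only [map_sum, map_pow, map_zero, LinearMap.sum_apply, LinearMap.zero_apply] at e3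
    have hpw : ∀ i : ℕ, ((bc (ρM sM)) ^ i) v = v := by
      intro i
      induction i with
      | zero => rfl
      | succ i ih => rw [pow_succ, Module.End.mul_apply, show bc (ρM sM) v = v from hv, ih]
    rw [Finset.sum_congr rfl (fun i _ => hpw i), Finset.sum_const, Finset.card_range,
      ← Nat.cast_smul_eq_nsmul K', Nat.cast_pow] at e3
    exact (smul_eq_zero.mp e3).resolve_left (pow_ne_zero _ (by exact_mod_cast h2K'))
  -- a primitive root is missing
  set ψ : Module.End (ZMod r) (Additive S') := ρM (sM ^ 2 ^ (n - 1)) - 1 with hψ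
  have hrank : finrank (ZMod r) (LinearMap.range ψ) ≤ D := by
    let U := ((⁅Y, T⁆ : Subgroup Γ).subgroupOf Y).map f
    let Us : Submodule (ZMod r) (Additive S') := AddSubgroup.toZModSubmodule r (Subgroup.toAddSubgroup U)
    have hψU : LinearMap.range ψ ≤ Us := by
      rintro _ ⟨w, rfl⟩
      obtain ⟨a, ha⟩ := hfs (Additive.toMul w)
      show Additive.toMul (ψ w) ∈ U
      have ha' : τ * (a : Γ) * τ⁻¹ ∈ Y := (mem_normalizer_iff.mp (Subgroup.pow_mem _ hsM.1 _) a).mp a.2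
      have e1 : Additive.toMul (ψ w) = f (⟨_, ha'⟩ * a⁻¹) := by
        rw [map_mul, map_inv, ← hσ (sM ^ 2 ^ (n - 1)) a ⟨_, ha'⟩ rfl, ha, ← div_eq_mul_inv]
        rfl
      rw [e1]
      refine ⟨_, ?_, rfl⟩
      show τ * (a : Γ) * τ⁻¹ * (a : Γ)⁻¹ ∈ ⁅Y, T⁆
      have h5 := Subgroup.inv_mem _ (commutator_mem_commutator (H₁ := Y) (H₂ := T) a.2 (mem_zpowers τ))
      rwa [commutatorElement_inv, commutatorElement_def] at h5
    have hTY : T ≤ normalizer (Y : Set Γ) := zpowers_le.mpr (Subgroup.pow_mem _ hsM.1 _)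
    have hcardU : Nat.card Us = E.relIndex ⁅Y, T⁆ := by
      show Nat.card U = _
      rw [← relIndex_ker, hfk, relIndex_subgroupOf (commutator_le_left_of_le_normalizer hTY)]
    refine (Submodule.finrank_mono hψU).trans ?_
    rw [← Nat.pow_le_pow_iff_right hr.out.one_lt]
    calc r ^ finrank (ZMod r) Us = Nat.card Us := by
          rw [Module.natCard_eq_pow_finrank (K := ZMod r), Nat.card_zmod]
      _ ≤ r ^ D := hcardU ▸ hle
  haveI : NeZero (2 ^ n) := ⟨pow_ne_zero _ two_ne_zero⟩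
  haveI : NeZero ((2 ^ n : ℕ) : K') := ⟨by rw [Nat.cast_pow]; exact pow_ne_zero _ (by exact_mod_cast h2K')⟩
  obtain ⟨lam, hlam, hmiss⟩ : ∃ lam : K', IsPrimitiveRoot lam (2 ^ n) ∧ ∀ v, ρK sM v = lam • v → v = 0 := by
    by_contra hc
    push Not at hc
    obtain ⟨ζ, hζ⟩ := HasEnoughRootsOfUnity.exists_primitiveRoot K' (2 ^ n)
    set P' := primitiveRoots (2 ^ n) K'
    have hprim : ∀ μ : P', IsPrimitiveRoot (μ : K') (2 ^ n) := fun μ =>
      (mem_primitiveRoots (Nat.two_pow_pos n)).mp μ.2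
    choose v hv hv0 using fun μ : P' => hc (μ : K') (hprim μ)
    have hpw : ∀ (μ : P') (i : ℕ), ((bc (ρM sM)) ^ i) (v μ) = (μ : K') ^ i • v μ := by
      intro μ i
      induction i with
      | zero => simp
      | succ i ih =>
        rw [pow_succ, Module.End.mul_apply, show bc (ρM sM) (v μ) = _ from hv μ, map_smul, ih, smul_smul, pow_succ']
    have hrange : ∀ μ : P', v μ ∈ LinearMap.range (bc ψ) := by
      intro μ
      refine ⟨(-2 : K')⁻¹ • v μ, ?_⟩
      have hμ : (μ : K') ^ 2 ^ (n - 1) = -1 := by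
        refine (sq_eq_one_iff.mp ?_).resolve_left
          ((hprim μ).pow_ne_one_of_pos_of_lt (pow_ne_zero _ two_ne_zero) (Nat.pow_lt_pow_right (by norm_num) (by omega)))
        rw [← pow_mul, ← pow_succ, show n - 1 + 1 = n by omega, (hprim μ).pow_eq_one]
      rw [hψ, map_sub, map_one, map_pow, map_pow, LinearMap.sub_apply, Module.End.one_apply, map_smul, hpw, hμ,
        smul_smul, ← sub_smul, show (-2 : K')⁻¹ * -1 - (-2 : K')⁻¹ = 1 by
          rw [show (-2 : K')⁻¹ * -1 - (-2 : K')⁻¹ = (-2 : K')⁻¹ * (-2) by ring,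
            inv_mul_cancel₀ (neg_ne_zero.mpr h2K')], one_smul]
    have hli : LinearIndependent K' v :=
      Module.End.eigenvectors_linearIndependent' (bc (ρM sM)) (fun μ : P' => (μ : K')) Subtype.val_injective v
        (fun μ => ⟨Module.End.mem_eigenspace_iff.mpr (hv μ), hv0 μ⟩)
    have h1 : Fintype.card P' ≤ finrank K' (LinearMap.range (bc ψ)) :=
      (LinearIndependent.of_comp (LinearMap.range (bc ψ)).subtype
        (show LinearIndependent K' ((LinearMap.range (bc ψ)).subtype ∘ fun μ => (⟨v μ, hrange μ⟩ : LinearMap.range (bc ψ)))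
          from hli)).fintype_card_le_finrank
    have h2 : finrank K' (LinearMap.range (bc ψ)) ≤ finrank (ZMod r) (LinearMap.range ψ) := by
      have e : bc ψ = ((LinearMap.range ψ).subtype.baseChange K') ∘ₗ (ψ.rangeRestrict.baseChange K') := by
        rw [← LinearMap.baseChange_comp]; rfl
      rw [e]
      refine (Submodule.finrank_mono (LinearMap.range_comp_le_range _ _)).trans ?_
      refine (LinearMap.finrank_range_le _).trans_eq ?_
      exact Module.finrank_baseChange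
    rw [Fintype.card_coe, hζ.card_primitiveRoots, Nat.totient_prime_pow Nat.prime_two (by omega),
      show (2 : ℕ) - 1 = 1 from rfl, mul_one] at h1
    omega
  -- the commutators act trivially on the section
  have hqK' : (q : K') ≠ 0 := hcast q hq.out (Ne.symm hqr)
  have htriv := missing_trivial ρK hq2 h2K' hqK' hn hsMn hfixK hlam hmiss (Q1.subgroupOf M)
    (hQ.to_le hQ1Q).comap_subtype (mem_normalizer_iff.mpr fun g => mem_normalizer_iff.mp hsQ1 (g : Γ))
  have hτn : τ ∈ normalizer (Q1 : Set Γ) := Subgroup.pow_mem _ hsQ1 _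
  have hker : Q1 ≤ ρK.ker.map M.subtype := hgen1.trans (Subgroup.commutator_le.mpr fun g hg t ht => by
    obtain ⟨i, rfl⟩ := mem_powers_iff_mem_zpowers.mpr ht
    refine ⟨⁅(⟨g, hQ1M hg⟩ : M), (sM ^ 2 ^ (n - 1)) ^ i⁆, ?_, ?_⟩
    · have hit : ∀ i : ℕ, ∀ g' : M, g' ∈ Q1.subgroupOf M →
          ρK ((sM ^ 2 ^ (n - 1)) ^ i * g' * ((sM ^ 2 ^ (n - 1)) ^ i)⁻¹) = ρK g' := by
        intro i
        induction i with
        | zero => intro g' _; simp
        | succ i ih =>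
          intro g' hg'
          have hm : sM ^ 2 ^ (n - 1) * g' * (sM ^ 2 ^ (n - 1))⁻¹ ∈ Q1.subgroupOf M :=
            (mem_normalizer_iff.mp hτn (g' : Γ)).mp hg'
          rw [← htriv g' hg', ← ih _ hm]
          congr 1
          rw [pow_succ]; group
      set tM := (sM ^ 2 ^ (n - 1)) ^ i
      set gM : M := ⟨g, hQ1M hg⟩
      show ⁅gM, tM⁆ ∈ ρK.ker
      rw [MonoidHom.mem_ker, show ⁅gM, tM⁆ = gM * (tM * gM⁻¹ * tM⁻¹) by rw [commutatorElement_def]; group, map_mul,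
        hit i gM⁻¹ (inv_mem (show gM ∈ Q1.subgroupOf M from hg)), ← map_mul, mul_inv_cancel, map_one]
    · rw [map_commutatorElement]; rfl)
  obtain ⟨d, hd, hd'⟩ := hker hx₀
  have hinj : ∀ v : Additive S', (1 : K') ⊗ₜ[ZMod r] v = 0 → v = 0 := by
    intro v hv
    let b := Module.finBasis (ZMod r) (Additive S')
    refine b.repr.injective (Finsupp.ext fun i => (algebraMap (ZMod r) K').injective ?_)
    have h1 := congrArg (fun t => (b.baseChange K').repr t i) hv
    simp only [Module.Basis.baseChange_repr_tmul, map_zero, Finsupp.coe_zero, Pi.zero_apply] at h1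
    rw [map_zero, Finsupp.coe_zero, Pi.zero_apply, map_zero, Algebra.algebraMap_eq_smul_one]
    exact h1
  have hdu : σ d (f ⟨u, hu⟩) = f ⟨u, hu⟩ := by
    have h1 : ρM d (Additive.ofMul (f ⟨u, hu⟩)) = Additive.ofMul (f ⟨u, hu⟩) := by
      refine sub_eq_zero.mp (hinj _ ?_)
      rw [TensorProduct.tmul_sub, ← LinearMap.baseChange_tmul]
      show ρK d ((1 : K') ⊗ₜ[ZMod r] _) - _ = 0
      rw [MonoidHom.mem_ker.mp hd, Module.End.one_apply, sub_self]
    exact congrArg Additive.toMul h1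
  subst hd'
  have hu' : (d : Γ) * u * (d : Γ)⁻¹ ∈ Y := (mem_normalizer_iff.mp d.2.1 u).mp hu
  rw [hσ d ⟨u, hu⟩ ⟨_, hu'⟩ rfl] at hdu
  have h2 : (⟨u, hu⟩ : Y)⁻¹ * ⟨_, hu'⟩ ∈ f.ker := by
    rw [MonoidHom.mem_ker, map_mul, map_inv, hdu, inv_mul_cancel]
  rw [hfk] at h2
  have h3 : u⁻¹ * ((d : Γ) * u * (d : Γ)⁻¹) ∈ E := h2
  have h4 := mem_transRad.mp h3 0
  rwa [pow_zero, inv_one, one_mul, mul_one] at h4

end Cfsg.Agent.Grp.GrossFpf
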