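import Mathlib
import Cfsg.Prelude.Def_Solvable
import Cfsg.Prelude.Def_Transfer
import Cfsg.Agent.Lib.Grp.ShultGrossChain
import Cfsg.Agent.Lib.Grp.GrossFpf.Second

/-!
The movers of a normalized `r`-group centralize its invariant coprime groups.
-/

set_option autoImplicit false
set_option linter.style.haveILetI false
set_option linter.unusedSectionVars false

namespace Cfsg.Agent.Grp.GrossFpf

open Module Cfsg.Agent.Grp
open scoped commutatorElement TensorProduct

universe u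

/-- Either the involution for small orders, or its commutators with a normalized `q`-group. -/
def IsMover {Γ : Type*} [Group Γ] (r n : ℕ) (s : Γ) (R X : Subgroup Γ) : Prop :=
  (n ≤ 2 ∧ X = Subgroup.zpowers (s ^ 2 ^ (n - 1))) ∨
    ∃ q : ℕ, ∃ Q : Subgroup Γ, q.Prime ∧ q ≠ 2 ∧ q ≠ r ∧ IsPGroup q Q ∧ s ∈ Subgroup.normalizer (Q : Set Γ) ∧
      Q ≤ Subgroup.normalizer (R : Set Γ) ∧ X = ⁅Q, Subgroup.zpowers (s ^ 2 ^ (n - 1))⁆

theorem IsMover.map {Γ Δ : Type*} [Group Γ] [Group Δ] {r n : ℕ} {s : Γ} {R X : Subgroup Γ}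
    (h : IsMover r n s R X) (f : Γ →* Δ) : IsMover r n (f s) (R.map f) (X.map f) := by
  rcases h with ⟨hn, rfl⟩ | ⟨q, Q, hq, hq2, hqr, hQ, hsQ, hQR, rfl⟩
  · exact Or.inl ⟨hn, by rw [MonoidHom.map_zpowers, map_pow]⟩
  · exact Or.inr ⟨q, Q.map f, hq, hq2, hqr, hQ.map f, Subgroup.le_normalizer_map f ⟨s, hsQ, rfl⟩,
      (Subgroup.map_mono hQR).trans (Subgroup.le_normalizer_map f),
      by rw [Subgroup.map_commutator, MonoidHom.map_zpowers, map_pow]⟩

theorem IsMover.le_normalizer {Γ : Type*} [Group Γ] {r n : ℕ} {s : Γ} {R X : Subgroup Γ}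
    (h : IsMover r n s R X) (hsR : s ∈ Subgroup.normalizer (R : Set Γ)) :
    X ≤ Subgroup.normalizer (R : Set Γ) := by
  rcases h with ⟨-, rfl⟩ | ⟨q, Q, -, -, -, -, -, hQR, rfl⟩
  · exact Subgroup.zpowers_le.mpr (Subgroup.pow_mem _ hsR _)
  · refine Subgroup.commutator_le.mpr fun a ha b hb => ?_
    have hb' := Subgroup.zpowers_le.mpr (Subgroup.pow_mem _ hsR _) hb
    rw [commutatorElement_def]
    exact mul_mem (mul_mem (mul_mem (hQR ha) hb') (inv_mem (hQR ha))) (inv_mem hb')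

/-- The action on an invariant elementary abelian group. -/
theorem mover_centralizes_elementary {Γ : Type*} [Group Γ] [Finite Γ] {l r : ℕ}
    [hl : Fact l.Prime] [hr : Fact r.Prime] (hr2 : r ≠ 2) (hl2 : l ≠ 2) (hlr : l ≠ r) (s : Γ) {n : ℕ}
    (hn : 1 ≤ n) (hs : s ^ 2 ^ n = 1) (R X : Subgroup Γ) (hR : IsPGroup r R) (hX : IsMover r n s R X)
    (hsR : s ∈ Subgroup.normalizer (R : Set Γ)) (hRfix : R ⊓ Subgroup.centralizer ({s} : Set Γ) = ⊥)
    (V : Subgroup Γ) [V.Normal] (hV : Cfsg.IsElementaryAbelian l V)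
    (hVfix : V ⊓ Subgroup.centralizer ({s} : Set Γ) = ⊥) :
    ⁅R, X⁆ ≤ Subgroup.centralizer (V : Set Γ) := by
  classical
  haveI := Fact.mk Nat.prime_two
  haveI := hV.1
  letI : CommGroup V := { (inferInstance : Group V) with mul_comm := fun u v => IsMulCommutative.is_comm.comm u v }
  haveI : Module (ZMod l) (Additive V) := AddCommGroup.zmodModule (fun w => by
    refine Additive.toMul.injective (Subtype.ext ?_)
    rw [toMul_nsmul, toMul_zero, SubmonoidClass.coe_pow, hV.2 _ (Additive.toMul w).2, Subgroup.coe_one])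
  let τ₀ : Γ →* MulAut V := MulAut.conjNormal
  let ρ : Γ →* Module.End (ZMod l) (Additive V) :=
    { toFun := fun g => (τ₀ g).toMonoidHom.toAdditive.toZModLinearMap l
      map_one' := LinearMap.ext fun w => by
        show Additive.ofMul (τ₀ 1 (Additive.toMul w)) = w
        rw [map_one]; rfl
      map_mul' := fun g g' => LinearMap.ext fun w => by
        show Additive.ofMul (τ₀ (g * g') (Additive.toMul w)) = Additive.ofMul (τ₀ g (τ₀ g' (Additive.toMul w)))
        rw [map_mul]; rfl }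
  have hρ : ∀ (g : Γ) (w : Additive V), ((Additive.toMul (ρ g w) : V) : Γ) = g * (Additive.toMul w : V) * g⁻¹ :=
    fun g w => MulAut.conjNormal_apply g _
  haveI : Module.Finite (ZMod l) (Additive V) := Module.Finite.of_finite
  let K := AlgebraicClosure (ZMod l)
  haveI : CharP K l := charP_of_injective_algebraMap (algebraMap (ZMod l) K).injective l
  let bc := Module.End.baseChangeHom (ZMod l) K (Additive V)
  let ρK : Γ →* Module.End K (K ⊗[ZMod l] Additive V) := bc.toMonoidHom.comp ρ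
  have hinj : ∀ v : Additive V, (1 : K) ⊗ₜ[ZMod l] v = 0 → v = 0 := by
    intro v hv
    let b := Module.finBasis (ZMod l) (Additive V)
    refine b.repr.injective (Finsupp.ext fun i => (algebraMap (ZMod l) K).injective ?_)
    have h1 := congrArg (fun t => (b.baseChange K).repr t i) hv
    simp only [Module.Basis.baseChange_repr_tmul, map_zero, Finsupp.coe_zero, Pi.zero_apply] at h1
    rw [map_zero, Finsupp.coe_zero, Pi.zero_apply, map_zero, Algebra.algebraMap_eq_smul_one]
    exact h1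
  have hK1 : ∀ g, ρK g = 1 → g ∈ Subgroup.centralizer (V : Set Γ) := by
    intro g hg
    rw [Subgroup.mem_centralizer_iff]
    intro v hv
    have h1 : ρ g (Additive.ofMul ⟨v, hv⟩) = Additive.ofMul (⟨v, hv⟩ : V) := by
      refine sub_eq_zero.mp (hinj _ ?_)
      rw [TensorProduct.tmul_sub, ← LinearMap.baseChange_tmul]
      show ρK g ((1 : K) ⊗ₜ[ZMod l] _) - _ = 0
      rw [hg, Module.End.one_apply, sub_self]
    have h2 := hρ g (Additive.ofMul ⟨v, hv⟩)
    rw [h1] at h2
    exact (mul_inv_eq_iff_eq_mul.mp h2.symm).symm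
  have hcast : ∀ j : ℕ, j.Prime → l ≠ j → (j : K) ≠ 0 := fun j hj hne e =>
    hne ((Nat.prime_dvd_prime_iff_eq hl.out hj).mp ((CharP.cast_eq_zero_iff K l j).mp e))
  have h2K : (2 : K) ≠ 0 := by exact_mod_cast hcast 2 Nat.prime_two hl2
  have hfixK : ∀ v, ρK s v = v → v = 0 := by
    intro v hv
    have hS0 : ∑ i ∈ Finset.range (2 ^ n), (ρ s) ^ i = 0 := by
      refine LinearMap.ext fun w => ?_
      set t := (∑ i ∈ Finset.range (2 ^ n), (ρ s) ^ i) w with ht
      have hfix : ρ s t = t := by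
        have e2 := mul_geom_sum (ρ s) (2 ^ n)
        rw [← map_pow, hs, map_one, sub_self, sub_mul, one_mul, sub_eq_zero] at e2
        rw [ht, ← Module.End.mul_apply, e2]
      have hmem : ((Additive.toMul t : V) : Γ) ∈ V ⊓ Subgroup.centralizer ({s} : Set Γ) := by
        refine Subgroup.mem_inf.mpr ⟨(Additive.toMul t).2, Subgroup.mem_centralizer_singleton_iff.mpr ?_⟩
        have h4 := hρ s t
        rw [hfix] at h4
        exact (mul_inv_eq_iff_eq_mul.mp h4.symm).symm
      rw [hVfix, Subgroup.mem_bot] at hmem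
      exact Additive.toMul.injective (Subtype.ext hmem)
    have e3 := congrArg (fun T => (bc T) v) hS0
    simp only [map_sum, map_pow, map_zero, LinearMap.sum_apply, LinearMap.zero_apply] at e3
    have hpw : ∀ i : ℕ, ((bc (ρ s)) ^ i) v = v := by
      intro i
      induction i with
      | zero => rfl
      | succ i ih => rw [pow_succ, Module.End.mul_apply, show bc (ρ s) v = v from hv, ih]
    rw [Finset.sum_congr rfl (fun i _ => hpw i), Finset.sum_const, Finset.card_range,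
      ← Nat.cast_smul_eq_nsmul K, Nat.cast_pow] at e3
    exact (smul_eq_zero.mp e3).resolve_left (pow_ne_zero _ (by exact_mod_cast h2K))
  -- pass to the faithful image
  let φ := ρK.toHomUnits
  let f := φ.rangeRestrict
  let ρ' : ↥φ.range →* Module.End K (K ⊗[ZMod l] Additive V) := (Units.coeHom _).comp φ.range.subtype
  haveI : Finite ↥φ.range := Finite.of_surjective f φ.rangeRestrict_surjective
  have hρinj : Function.Injective ρ' := fun a b e => Subtype.ext (Units.ext e)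
  have hsf : f s ^ 2 ^ n = 1 := by rw [← map_pow, hs, map_one]
  have hRf : IsPGroup r (R.map f) := hR.map f
  have hsRf : f s ∈ Subgroup.normalizer ((R.map f : Subgroup _) : Set ↥φ.range) :=
    Subgroup.le_normalizer_map f ⟨s, hsR, rfl⟩
  have hcop : (orderOf s).Coprime (Nat.card R) := by
    obtain ⟨i, hi⟩ := hR.exists_card_eq
    rw [hi]
    exact Nat.Coprime.coprime_dvd_left (orderOf_dvd_of_pow_eq_one hs)
      (Nat.Coprime.pow _ _ ((Nat.coprime_primes Nat.prime_two hr.out).mpr (Ne.symm hr2)))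
  have hfpf : ∀ g ∈ R.map f, f s * g * (f s)⁻¹ = g → g = 1 := by
    rintro _ ⟨g, hg, rfl⟩ he
    refine MonoidHom.mem_ker.mp (ShultGross.fpf_map s R f.ker hcop hsR hRfix g hg (MonoidHom.mem_ker.mpr ?_))
    rw [map_mul, map_mul, map_mul, map_inv, map_inv, he, mul_inv_cancel]
  have hmain : ∀ x ∈ X.map f, ∀ u ∈ R.map f, x * u * x⁻¹ = u := by
    rcases hX.map f with ⟨hn2, e⟩ | ⟨q, Q, hq, hq2, hqr, hQ, hsQ, hQR, e⟩
    · intro x hx
      rw [e] at hx
      obtain ⟨i, rfl⟩ := mem_powers_iff_mem_zpowers.mpr hx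
      have h1 := involution_centralizes (ρ := ρ') hρinj hr2 h2K (hcast r hr.out hlr) hn hn2 hsf
        (fun v hv => hfixK v hv) (R.map f) hRf hsRf hfpf
      intro u hu
      show (f s ^ 2 ^ (n - 1)) ^ i * u * ((f s ^ 2 ^ (n - 1)) ^ i)⁻¹ = u
      clear hx
      induction i with
      | zero => simp
      | succ i ih =>
        calc _ = (f s ^ 2 ^ (n - 1)) ^ i * (f s ^ 2 ^ (n - 1) * u * (f s ^ 2 ^ (n - 1))⁻¹) *
              ((f s ^ 2 ^ (n - 1)) ^ i)⁻¹ := by rw [pow_succ]; group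
          _ = u := by rw [h1 u hu, ih]
    · haveI := Fact.mk hq
      intro x hx
      rw [e] at hx
      exact commutator_centralizes_second (ρ := ρ') hρinj hr2 hq2 hqr h2K (hcast r hr.out hlr) hn hsf
        (fun v hv => hfixK v hv) (R.map f) hRf hsRf hfpf Q hQ hsQ hQR x hx
  refine Subgroup.commutator_le.mpr fun g hg x hx => hK1 _ ?_
  have h1 : f ⁅g, x⁆ = 1 := by
    rw [map_commutatorElement, commutatorElement_eq_one_iff_mul_comm]
    exact (mul_inv_eq_iff_eq_mul.mp (hmain _ ⟨x, hx, rfl⟩ _ ⟨g, hg, rfl⟩)).symm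
  exact congrArg ρ' h1

/-- The action on an invariant coprime group of prime power order. -/
theorem mover_centralizes {l r : ℕ} [hl : Fact l.Prime] [hr : Fact r.Prime]
    (hr2 : r ≠ 2) (hl2 : l ≠ 2) (hlr : l ≠ r) {n : ℕ} (hn : 1 ≤ n) :
    ∀ (Γ : Type u) [Group Γ] [Finite Γ] (s : Γ), s ^ 2 ^ n = 1 → ∀ R X : Subgroup Γ, IsPGroup r R →
      IsMover r n s R X →
      s ∈ Subgroup.normalizer (R : Set Γ) → R ⊓ Subgroup.centralizer ({s} : Set Γ) = ⊥ →
      ∀ Q : Subgroup Γ, Q.Normal → IsPGroup l Q → Q ⊓ Subgroup.centralizer ({s} : Set Γ) = ⊥ →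
      ⁅R, X⁆ ≤ Subgroup.centralizer (Q : Set Γ) := by
  intro Γ _ _ s hs R X hR hX hsR hRfix Q hQn hQ hQfix
  induction hk : Nat.card Q using Nat.strong_induction_on generalizing Γ with
  | _ k ih =>
  classical
  haveI := Fact.mk Nat.prime_two
  set A := ⁅R, X⁆ with hA
  by_cases hQbot : Q = ⊥
  · intro a _
    rw [Subgroup.mem_centralizer_iff, hQbot]
    intro v hv
    rw [Subgroup.coe_bot, Set.mem_singleton_iff] at hv
    simp [hv]
  haveI := hQn
  let V : Subgroup Γ :=
    { carrier := {v | v ∈ Q ∧ (∀ x ∈ Q, v * x = x * v) ∧ v ^ l = 1}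
      one_mem' := ⟨Q.one_mem, fun x _ => by simp, one_pow l⟩
      mul_mem' := fun {a b} ha hb => ⟨Q.mul_mem ha.1 hb.1, fun x hx => by
          rw [mul_assoc, hb.2.1 x hx, ← mul_assoc, ha.2.1 x hx, mul_assoc],
        by rw [(show Commute a b from ha.2.1 b hb.1).mul_pow, ha.2.2, hb.2.2, one_mul]⟩
      inv_mem' := fun {a} ha => ⟨Q.inv_mem ha.1, fun x hx => ((show Commute a x from ha.2.1 x hx).inv_left).eq,
        by rw [inv_pow, ha.2.2, inv_one]⟩ }
  have hVQ : V ≤ Q := fun v hv => hv.1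
  haveI hVn : V.Normal := ⟨fun v hv g => ⟨hQn.conj_mem v hv.1 g, fun x hx => by
      have h1 := hv.2.1 (g⁻¹ * x * g) (by simpa using hQn.conj_mem x hx g⁻¹)
      calc g * v * g⁻¹ * x = g * (v * (g⁻¹ * x * g)) * g⁻¹ := by group
        _ = g * (g⁻¹ * x * g * v) * g⁻¹ := by rw [h1]
        _ = x * (g * v * g⁻¹) := by group,
    by rw [conj_pow, hv.2.2]; group⟩⟩
  have hV : Cfsg.IsElementaryAbelian l V :=
    ⟨⟨⟨fun a b => Subtype.ext (a.2.2.1 b b.2.1)⟩⟩, fun v hv => hv.2.2⟩
  have hVne : V ≠ ⊥ := by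
    haveI : Nontrivial Q := (Subgroup.nontrivial_iff_ne_bot Q).mpr hQbot
    haveI : Nontrivial (Subgroup.center Q) := hQ.center_nontrivial
    have hd : l ∣ Nat.card (Subgroup.center Q) := by
      obtain ⟨i, hi⟩ := (hQ.to_subgroup (Subgroup.center Q)).exists_card_eq
      rw [hi]
      refine dvd_pow_self l fun e => ?_
      rw [e, pow_zero] at hi
      exact (Finite.one_lt_card (α := Subgroup.center Q)).ne' hi
    obtain ⟨v, hv⟩ := exists_prime_orderOf_dvd_card' l hd
    intro e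
    have hmem : ((v : Q) : Γ) ∈ V := ⟨(v : Q).2, fun x hx =>
      congrArg Subtype.val (Subgroup.mem_center_iff.mp v.2 ⟨x, hx⟩).symm, by
        rw [← hv, ← Subgroup.coe_pow, ← Subgroup.coe_pow, pow_orderOf_eq_one]; rfl⟩
    rw [e, Subgroup.mem_bot] at hmem
    have : v = 1 := Subtype.ext (Subtype.ext hmem)
    rw [this, orderOf_one] at hv
    exact hl.out.ne_one hv.symm
  have h1 : A ≤ Subgroup.centralizer (V : Set Γ) :=
    mover_centralizes_elementary hr2 hl2 hlr s hn hs R X hR hX hsR hRfix V hV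
      (le_bot_iff.mp (hQfix ▸ inf_le_inf_right _ hVQ))
  -- modulo `V`
  set π := QuotientGroup.mk' V with hπ
  have hcop : ∀ {j : ℕ} [Fact j.Prime] (T : Subgroup Γ), IsPGroup j T → j ≠ 2 → (orderOf s).Coprime (Nat.card T) := by
    intro j hj T hT hne
    obtain ⟨i, hi⟩ := hT.exists_card_eq
    rw [hi]
    exact Nat.Coprime.coprime_dvd_left (orderOf_dvd_of_pow_eq_one hs)
      (Nat.Coprime.pow _ _ ((Nat.coprime_primes Nat.prime_two hj.out).mpr (Ne.symm hne)))
  have hfix' : ∀ {j : ℕ} [Fact j.Prime] (T : Subgroup Γ), IsPGroup j T → j ≠ 2 → s ∈ Subgroup.normalizer (T : Set Γ) →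
      T ⊓ Subgroup.centralizer ({s} : Set Γ) = ⊥ → T.map π ⊓ Subgroup.centralizer ({π s} : Set (Γ ⧸ V)) = ⊥ := by
    intro j hj T hT hne hsT hTfix
    rw [Subgroup.eq_bot_iff_forall]
    intro g hg
    obtain ⟨⟨g, hgT, rfl⟩, hgc⟩ := Subgroup.mem_inf.mp hg
    refine (QuotientGroup.eq_one_iff g).mpr (ShultGross.fpf_map s T V (hcop T hT hne) hsT hTfix g hgT ?_)
    rw [← QuotientGroup.eq_one_iff]
    show π (s * g * s⁻¹ * g⁻¹) = 1
    rw [map_mul, map_mul, map_mul, map_inv, map_inv, ← (Subgroup.mem_centralizer_singleton_iff.mp hgc),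
      mul_inv_cancel_right, mul_inv_cancel]
  have hsQ : s ∈ Subgroup.normalizer (Q : Set Γ) := by rw [Subgroup.normalizer_eq_top]; exact Subgroup.mem_top s
  have hlt : Nat.card (Q.map π) < k := by
    rw [← hk]
    refine lt_of_le_of_ne (Nat.le_of_dvd Nat.card_pos (Subgroup.card_map_dvd Q π)) fun e => hVne ?_
    have hinj : Set.InjOn π (Q : Set Γ) := by
      have h2 : Function.Bijective (π.subgroupMap Q) :=
        (Nat.bijective_iff_surjective_and_card _).mpr ⟨π.subgroupMap_surjective Q, e.symm⟩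
      intro a ha b hb hab
      exact congrArg Subtype.val (h2.1 (a₁ := ⟨a, ha⟩) (a₂ := ⟨b, hb⟩) (Subtype.ext hab))
    rw [Subgroup.eq_bot_iff_forall]
    intro v hv
    refine hinj (hVQ hv) Q.one_mem ?_
    rw [map_one]
    exact (QuotientGroup.eq_one_iff v).mpr hv
  have h2 := ih _ hlt (Γ ⧸ V) (π s) (by rw [← map_pow, hs, map_one]) (R.map π) (X.map π) (hR.map π) (hX.map π)
    (Subgroup.le_normalizer_map π ⟨s, hsR, rfl⟩) (hfix' R hR hr2 hsR hRfix) (Q.map π)
    (hQn.map π (QuotientGroup.mk'_surjective V)) (hQ.map π) (hfix' Q hQ hl2 hsQ hQfix) rfl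
  rw [← Subgroup.map_commutator, ← hA] at h2
  have hQA : ⁅Q, A⁆ ≤ V := Subgroup.commutator_le.mpr fun x hx a ha => by
    rw [← QuotientGroup.eq_one_iff, ← QuotientGroup.mk'_apply, map_commutatorElement,
      commutatorElement_eq_one_iff_mul_comm]
    exact Subgroup.mem_centralizer_iff.mp (h2 ⟨a, ha, rfl⟩) _ ⟨x, hx, rfl⟩
  have hVA : ⁅V, A⁆ = ⊥ := by
    rw [Subgroup.commutator_comm]
    exact Subgroup.commutator_eq_bot_iff_le_centralizer.mpr h1
  have hAR : A ≤ R := commutator_le_left_of_le_normalizer (hX.le_normalizer hsR)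
  refine le_centralizer_of_series A Q V (by rw [Subgroup.normalizer_eq_top]; exact le_top)
    (IsPGroup.coprime_card_of_ne r l (Ne.symm hlr) A Q (hR.to_le hAR) hQ)
    (Or.inr (@IsNilpotent.to_isSolvable _ _ hQ.isNilpotent)) hQA hVA

end Cfsg.Agent.Grp.GrossFpf
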