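import Mathlib
import Cfsg.Prelude.Def_Solvable
import Cfsg.Prelude.Def_Transfer
import Cfsg.Agent.Lib.Grp.FpfDual
import Cfsg.Agent.Lib.Grp.Cores
import Cfsg.Agent.Lib.Grp.Solvable
import Cfsg.Agent.Lib.Grp.CoprimeAbelian
import Cfsg.Agent.Lib.Grp.GrossFpf.Chain

/-!
Gross's bound on the Fitting height.
-/

set_option autoImplicit false
set_option linter.style.haveILetI false
set_option linter.unusedSectionVars false

namespace Cfsg.Agent.Grp.GrossFpf

open Cfsg.Agent.Grp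
open scoped commutatorElement

universe u

variable {G : Type u} [Group G] [Finite G] {σ : MulAut G} {n : ℕ}

/-- The semidirect product with the operator. -/
theorem exists_semi (hσ : σ ^ 2 ^ n = 1) (hfpf : ∀ g : G, σ g = g → g = 1) :
    ∃ (Γ : Type u) (_ : Group Γ) (_ : Finite Γ) (ι : G →* Γ) (s : Γ), Function.Injective ι ∧ s ^ 2 ^ n = 1 ∧
      (∀ (k : ℕ) (g : G), s ^ k * ι g * (s ^ k)⁻¹ = ι ((σ ^ k : MulAut G) g)) ∧
      (∀ H : Subgroup G, H.Normal → H.map σ.toMonoidHom = H → (H.map ι).Normal) ∧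
      (∀ H : Subgroup G, H.map σ.toMonoidHom = H → s ∈ Subgroup.normalizer ((H.map ι : Subgroup Γ) : Set Γ)) ∧
      ∀ H : Subgroup G, H.map ι ⊓ Subgroup.centralizer ({s} : Set Γ) = ⊥ := by
  classical
  let S := Subgroup.zpowers σ
  let φ : ↥S →* MulAut G := S.subtype
  haveI : Finite (MulAut G) := inferInstance
  haveI : Finite (G ⋊[φ] ↥S) := Finite.of_equiv _ SemidirectProduct.equivProd.symm
  let ι : G →* G ⋊[φ] ↥S := SemidirectProduct.inl
  let s : G ⋊[φ] ↥S := SemidirectProduct.inr ⟨σ, Subgroup.mem_zpowers σ⟩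
  have hconj : ∀ g, s * ι g * s⁻¹ = ι (σ g) := fun g => by
    show SemidirectProduct.inr _ * ι g * (SemidirectProduct.inr _)⁻¹ = _
    rw [← map_inv]
    exact (SemidirectProduct.inl_aut (φ := φ) _ g).symm
  have hconjk : ∀ (k : ℕ) g, s ^ k * ι g * (s ^ k)⁻¹ = ι ((σ ^ k : MulAut G) g) := by
    intro k
    induction k with
    | zero => intro g; simp
    | succ k ihk =>
      intro g
      rw [pow_succ, pow_succ, MulAut.mul_apply, ← ihk, ← hconj]; group
  refine ⟨G ⋊[φ] ↥S, inferInstance, inferInstance, ι, s, SemidirectProduct.inl_injective, ?_, hconjk, ?_, ?_, ?_⟩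
  · show (SemidirectProduct.inr _) ^ _ = (1 : G ⋊[φ] ↥S)
    rw [← map_pow, show (⟨σ, Subgroup.mem_zpowers σ⟩ : ↥S) ^ 2 ^ n = 1 from Subtype.ext hσ, map_one]
  · intro H hH hHσ
    refine ⟨fun y hy w => ?_⟩
    obtain ⟨y, hy, rfl⟩ := hy
    obtain ⟨k, hk⟩ := mem_powers_iff_mem_zpowers.mpr (w.right).2
    have hkH : ∀ i : ℕ, ∀ a ∈ H, (σ ^ i : MulAut G) a ∈ H := by
      intro i
      induction i with
      | zero => intro a ha; simpa using ha
      | succ i ih =>
        intro a ha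
        rw [pow_succ, MulAut.mul_apply]
        exact ih _ (by rw [← hHσ]; exact ⟨a, ha, rfl⟩)
    refine ⟨w.left * (σ ^ k : MulAut G) y * w.left⁻¹, hH.conj_mem _ (hkH k y hy) _, ?_⟩
    have hw : w = ι w.left * s ^ k := by
      show w = ι w.left * (SemidirectProduct.inr _) ^ k
      rw [← map_pow, show (⟨σ, Subgroup.mem_zpowers σ⟩ : ↥S) ^ k = w.right from Subtype.ext hk]
      exact (SemidirectProduct.inl_left_mul_inr_right w).symm
    conv_rhs => rw [hw]
    rw [map_mul, map_mul, map_inv, ← hconjk]; group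
  · intro H hH
    rw [mem_normalizer_iff_smul, ← map_conj_eq_smul, Subgroup.map_map]
    conv_rhs => rw [← hH, Subgroup.map_map]
    congr 1
    exact MonoidHom.ext fun g => hconj g
  · intro H
    rw [Subgroup.eq_bot_iff_forall]
    intro y hy
    obtain ⟨⟨g, -, rfl⟩, hc⟩ := Subgroup.mem_inf.mp hy
    rw [hfpf g ((SemidirectProduct.inl_injective : Function.Injective ι) ?_), map_one]
    show ι (σ g) = ι g
    rw [← hconj, ← Subgroup.mem_centralizer_singleton_iff.mp hc, mul_inv_cancel_right]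

/-- The group has odd order. -/
theorem odd_card (hσ : σ ^ 2 ^ n = 1) (hfpf : ∀ g : G, σ g = g → g = 1) : ¬ 2 ∣ Nat.card G := by
  haveI := Fact.mk Nat.prime_two
  obtain ⟨Γ, _, _, ι, s, hι, hs, -, -, hnorm, hfix⟩ := exists_semi hσ hfpf
  have hsord : IsPGroup 2 (Subgroup.zpowers s) := by
    obtain ⟨m, -, hm⟩ := (Nat.dvd_prime_pow Nat.prime_two).mp (orderOf_dvd_of_pow_eq_one hs)
    exact IsPGroup.of_card (n := m) (by rw [Nat.card_zpowers, hm])
  have h1 := not_dvd_card_of_fpf hsord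
    (Subgroup.zpowers_le.mpr (hnorm ⊤ (Subgroup.map_top_of_surjective _ σ.surjective)))
    (by rw [← centralizer_singleton_eq_zpowers]; exact hfix ⊤)
  rwa [← Nat.card_congr ((⊤ : Subgroup G).equivMapOfInjective ι hι).toEquiv, Subgroup.card_top] at h1

theorem pCore_two_eq_bot (hσ : σ ^ 2 ^ n = 1) (hfpf : ∀ g : G, σ g = g → g = 1) : Cfsg.pCore 2 G = ⊥ := by
  haveI := Fact.mk Nat.prime_two
  obtain ⟨i, hi⟩ := (pCore_isPGroup (p := 2) (G := G)).exists_card_eq
  rcases Nat.eq_zero_or_pos i with rfl | hi0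
  · exact Subgroup.card_eq_one.mp (by rw [hi, pow_zero])
  · exact absurd ((dvd_pow_self 2 hi0.ne').trans (hi ▸ Subgroup.card_subgroup_dvd_card _)) (odd_card hσ hfpf)

/-- Invariant Sylow subgroups. -/
theorem exists_sylow_invariant (hσ : σ ^ 2 ^ n = 1) (hfpf : ∀ g : G, σ g = g → g = 1) (M : Subgroup G)
    (hM : M.map σ.toMonoidHom = M) (r : ℕ) [hr : Fact r.Prime] :
    ∃ R : Subgroup G, IsSylowIn r R M ∧ R.map σ.toMonoidHom = R := by
  haveI := Fact.mk Nat.prime_two
  obtain ⟨Γ, _, _, ι, s, hι, hs, hconjk, -, hnorm, -⟩ := exists_semi hσ hfpf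
  have hsord : IsPGroup 2 (Subgroup.zpowers s) := by
    obtain ⟨m, -, hm⟩ := (Nat.dvd_prime_pow Nat.prime_two).mp (orderOf_dvd_of_pow_eq_one hs)
    exact IsPGroup.of_card (n := m) (by rw [Nat.card_zpowers, hm])
  have hcop : (Nat.card (Subgroup.zpowers s)).Coprime (Nat.card (M.map ι)) := by
    obtain ⟨i, hi⟩ := hsord.exists_card_eq
    rw [hi, ← Nat.card_congr (M.equivMapOfInjective ι hι).toEquiv]
    exact ((Nat.prime_two.coprime_iff_not_dvd.mpr (odd_card hσ hfpf)).pow_left i).coprime_dvd_right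
      (Subgroup.card_subgroup_dvd_card M)
  obtain ⟨R₀, hR₀, hR₀s⟩ := exists_invariant_sylow (Subgroup.zpowers s) (M.map ι)
    (Subgroup.zpowers_le.mpr (hnorm M hM)) hcop (Or.inl (Group.isSolvable_of_comm mul_comm')) r
  set R := R₀.comap ι with hR
  have hRmap : R.map ι = R₀ := by
    rw [hR, Subgroup.map_comap_eq, inf_eq_right]
    exact hR₀.1.trans (Subgroup.map_le_range ι M)
  refine ⟨R, ⟨?_, hR₀.2.1.comap_of_injective ι hι, ?_⟩, ?_⟩
  · intro y hy
    obtain ⟨y', hy', e⟩ := hR₀.1 hy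
    rwa [← hι e]
  · rw [← Subgroup.relIndex_map_map_of_injective R M hι, hRmap]; exact hR₀.2.2
  · refine Subgroup.eq_of_le_of_card_ge ?_ (le_of_eq
      (Nat.card_congr (R.equivMapOfInjective σ.toMonoidHom σ.injective).toEquiv))
    rintro _ ⟨y, hy, rfl⟩
    show ι (σ y) ∈ R₀
    have h1 := hconjk 1 y
    rw [pow_one, pow_one] at h1
    rw [← h1]
    exact (Subgroup.mem_normalizer_iff.mp (hR₀s (Subgroup.mem_zpowers s)) _).mp hy

/-- The induced operator has no fixed points. -/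
theorem fpf_quotient (hσ : σ ^ 2 ^ n = 1) (hfpf : ∀ g : G, σ g = g → g = 1) (N : Subgroup G) [hN : N.Normal]
    (hNσ : N.map σ.toMonoidHom = N) (g : G) (hg : σ g * g⁻¹ ∈ N) : g ∈ N := by
  haveI := Fact.mk Nat.prime_two
  obtain ⟨Γ, _, _, ι, s, hι, hs, hconjk, hnormal, hnorm, hfix⟩ := exists_semi hσ hfpf
  haveI := hnormal N hN hNσ
  have hcop : (orderOf s).Coprime (Nat.card ((⊤ : Subgroup G).map ι)) := by
    rw [← Nat.card_congr ((⊤ : Subgroup G).equivMapOfInjective ι hι).toEquiv, Subgroup.card_top]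
    exact Nat.Coprime.coprime_dvd_left (orderOf_dvd_of_pow_eq_one hs)
      ((Nat.prime_two.coprime_iff_not_dvd.mpr (odd_card hσ hfpf)).pow_left n)
  obtain ⟨x, hx, e⟩ := ShultGross.fpf_map s ((⊤ : Subgroup G).map ι) (N.map ι) hcop
    (hnorm ⊤ (Subgroup.map_top_of_surjective _ σ.surjective)) (hfix ⊤) (ι g)
    ⟨g, Subgroup.mem_top g, rfl⟩ (by
      have h1 := hconjk 1 g
      rw [pow_one, pow_one] at h1
      rw [h1, ← map_inv, ← map_mul]
      exact Subgroup.mem_map_of_mem ι hg)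
  rwa [← hι e]

/-- For order at most four the involution moves an invariant `r`-group into the centralizer of the cores. -/
theorem tau_centralizes_core (hn : 1 ≤ n) (hn2 : n ≤ 2) (hσ : σ ^ 2 ^ n = 1) (hfpf : ∀ g : G, σ g = g → g = 1)
    {r : ℕ} (hr : r.Prime) (hr2 : r ≠ 2) (R : Subgroup G) (hR : IsPGroup r R) (hRσ : R.map σ.toMonoidHom = R)
    {l : ℕ} (hl : l.Prime) (hlr : l ≠ r) {y : G} (hy : y ∈ R) :
    (σ ^ 2 ^ (n - 1) : MulAut G) y * y⁻¹ ∈ Subgroup.centralizer (Cfsg.pCore l G : Set G) := by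
  haveI := Fact.mk hl
  haveI := Fact.mk hr
  by_cases hl2 : l = 2
  · subst hl2
    simp [pCore_two_eq_bot hσ hfpf, Subgroup.mem_centralizer_iff]
  obtain ⟨Γ, _, _, ι, s, hι, hs, hconjk, hnormal, hnorm, hfix⟩ := exists_semi hσ hfpf
  haveI hQn := pCore_isNormal (p := l) (G := G)
  have hres := mover_centralizes hr2 hl2 hlr hn Γ s hs (R.map ι) _ (hR.map ι) (Or.inl ⟨hn2, rfl⟩)
    (hnorm R hRσ) (hfix R) _ (hnormal _ hQn (Subgroup.characteristic_iff_map_eq.mp inferInstance σ))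
    ((pCore_isPGroup (p := l)).map ι) (hfix _)
  rw [Subgroup.mem_centralizer_iff]
  intro v hv
  refine hι ?_
  have h2 := Subgroup.inv_mem _ (hres (Subgroup.commutator_mem_commutator (Subgroup.mem_map_of_mem ι hy)
    (Subgroup.mem_zpowers (s ^ 2 ^ (n - 1)))))
  rw [commutatorElement_inv, commutatorElement_def, hconjk, ← map_inv, ← map_mul] at h2
  rw [map_mul, map_mul ι (_ * y⁻¹) v]
  exact Subgroup.mem_centralizer_iff.mp h2 _ ⟨v, hv, rfl⟩

/-- The commutators with a normalizing `q`-group move an invariant `r`-group into the centralizer of the cores. -/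
theorem commutator_centralizes_core (hn : 1 ≤ n) (hσ : σ ^ 2 ^ n = 1) (hfpf : ∀ g : G, σ g = g → g = 1)
    {r : ℕ} (hr : r.Prime) (hr2 : r ≠ 2) {q : ℕ} (hq : q.Prime) (hq2 : q ≠ 2) (hqr : q ≠ r)
    (R : Subgroup G) (hR : IsPGroup r R) (hRσ : R.map σ.toMonoidHom = R)
    (Q : Subgroup G) (hQ : IsPGroup q Q) (hQσ : Q.map σ.toMonoidHom = Q)
    (hQR : Q ≤ Subgroup.normalizer (R : Set G))
    {l : ℕ} (hl : l.Prime) (hlr : l ≠ r) {a y : G} (ha : a ∈ R) (hy : y ∈ Q) :
    ⁅a, (σ ^ 2 ^ (n - 1) : MulAut G) y * y⁻¹⁆ ∈ Subgroup.centralizer (Cfsg.pCore l G : Set G) := by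
  haveI := Fact.mk hl
  haveI := Fact.mk hr
  by_cases hl2 : l = 2
  · subst hl2
    simp [pCore_two_eq_bot hσ hfpf, Subgroup.mem_centralizer_iff]
  obtain ⟨Γ, _, _, ι, s, hι, hs, hconjk, hnormal, hnorm, hfix⟩ := exists_semi hσ hfpf
  haveI hQn := pCore_isNormal (p := l) (G := G)
  have hres := mover_centralizes hr2 hl2 hlr hn Γ s hs (R.map ι) _ (hR.map ι)
    (Or.inr ⟨q, Q.map ι, hq, hq2, hqr, hQ.map ι, hnorm Q hQσ,
      (Subgroup.map_mono hQR).trans (Subgroup.le_normalizer_map ι), rfl⟩)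
    (hnorm R hRσ) (hfix R) _ (hnormal _ hQn (Subgroup.characteristic_iff_map_eq.mp inferInstance σ))
    ((pCore_isPGroup (p := l)).map ι) (hfix _)
  have hx : ι ((σ ^ 2 ^ (n - 1) : MulAut G) y * y⁻¹) ∈ ⁅Q.map ι, Subgroup.zpowers (s ^ 2 ^ (n - 1))⁆ := by
    have h2 := Subgroup.inv_mem _ (Subgroup.commutator_mem_commutator (Subgroup.mem_map_of_mem ι hy)
      (Subgroup.mem_zpowers (s ^ 2 ^ (n - 1))))
    rwa [commutatorElement_inv, commutatorElement_def, hconjk, ← map_inv, ← map_mul] at h2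
  have h3 := hres (Subgroup.commutator_mem_commutator (Subgroup.mem_map_of_mem ι ha) hx)
  rw [← map_commutatorElement] at h3
  rw [Subgroup.mem_centralizer_iff]
  intro v hv
  refine hι ?_
  rw [map_mul, map_mul ι _ v]
  exact Subgroup.mem_centralizer_iff.mp h3 _ ⟨v, hv, rfl⟩

/-- An element over `O_r (G / F)` centralizing the other cores lies in the Fitting subgroup. -/
theorem mem_fitting_of_centralizing [(Cfsg.fittingSubgroup G).Normal] {r : ℕ} (hr : r.Prime) {w : G}
    (hw : (w : G ⧸ Cfsg.fittingSubgroup G) ∈ Cfsg.pCore r (G ⧸ Cfsg.fittingSubgroup G))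
    (hc : ∀ l : ℕ, l.Prime → l ≠ r → w ∈ Subgroup.centralizer (Cfsg.pCore l G : Set G)) :
    w ∈ Cfsg.fittingSubgroup G := by
  haveI := Fact.mk hr
  set F := Cfsg.fittingSubgroup G
  set M := (Cfsg.pCore r (G ⧸ F)).comap (QuotientGroup.mk' F) with hM
  let D : Subgroup G := M ⊓ ⨅ (q : ℕ) (_ : q.Prime ∧ q ≠ r), Subgroup.centralizer (Cfsg.pCore q G : Set G)
  haveI : (Cfsg.pCore r (G ⧸ F)).Normal := pCore_isNormal
  haveI hMn : M.Normal := Subgroup.Normal.comap inferInstance _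
  have hDn : D.Normal := by
    haveI : (⨅ (q : ℕ) (_ : q.Prime ∧ q ≠ r), Subgroup.centralizer (Cfsg.pCore q G : Set G)).Normal := by
      refine Subgroup.normal_iInf_normal fun q => Subgroup.normal_iInf_normal fun _ => ?_
      haveI := pCore_isNormal (p := q) (G := G)
      infer_instance
    exact inferInstanceAs (M ⊓ ⨅ (q : ℕ) (_ : q.Prime ∧ q ≠ r), Subgroup.centralizer (Cfsg.pCore q G : Set G)).Normal
  refine le_fitting_of_centralizing (q := r) hDn (fun q hq hqr => inf_le_right.trans (iInf₂_le q ⟨hq, hqr⟩))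
    (fun q hq hqr x hx i hi => ?_) (show w ∈ D from Subgroup.mem_inf.mpr ⟨hw, ?_⟩)
  · rw [← QuotientGroup.eq_one_iff]
    obtain ⟨j, hj⟩ := (pCore_isPGroup (p := r) (G := G ⧸ F)) ⟨_, (Subgroup.mem_inf.mp hx).1⟩
    have hj' : (x : G ⧸ F) ^ r ^ j = 1 := congrArg Subtype.val hj
    have hi' : (x : G ⧸ F) ^ q ^ i = 1 := by rw [← QuotientGroup.mk_pow, hi, QuotientGroup.mk_one]
    have h3 := pow_gcd_eq_one.mpr ⟨hi', hj'⟩
    rwa [Nat.Coprime.pow i j ((Nat.coprime_primes hq hr).mpr hqr), pow_one] at h3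
  · simp only [Subgroup.mem_iInf]
    rintro q ⟨hq, hqr⟩
    exact hc q hq hqr

/-- An invariant Sylow subgroup over `O_r (G / F)` covers it. -/
theorem exists_cover [(Cfsg.fittingSubgroup G).Normal] (hσ : σ ^ 2 ^ n = 1) (hfpf : ∀ g : G, σ g = g → g = 1)
    (r : ℕ) [hr : Fact r.Prime] :
    ∃ R : Subgroup G, IsPGroup r R ∧ R.map σ.toMonoidHom = R ∧
      R ≤ (Cfsg.pCore r (G ⧸ Cfsg.fittingSubgroup G)).comap (QuotientGroup.mk' _) ∧
      (Cfsg.pCore r (G ⧸ Cfsg.fittingSubgroup G)).comap (QuotientGroup.mk' _) ≤ R ⊔ Cfsg.fittingSubgroup G ∧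
      Subgroup.normalizer (R : Set G) ⊔ Cfsg.fittingSubgroup G = ⊤ := by
  set F := Cfsg.fittingSubgroup G with hF
  have hFσ : F.map σ.toMonoidHom = F := Subgroup.characteristic_iff_map_eq.mp inferInstance σ
  set M := (Cfsg.pCore r (G ⧸ F)).comap (QuotientGroup.mk' F) with hM
  haveI : (Cfsg.pCore r (G ⧸ F)).Normal := pCore_isNormal
  haveI hMn : M.Normal := Subgroup.Normal.comap inferInstance _
  have hMσ : M.map σ.toMonoidHom = M := by
    refine Subgroup.eq_of_le_of_card_ge ?_ (le_of_eq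
      (Nat.card_congr (M.equivMapOfInjective σ.toMonoidHom σ.injective).toEquiv))
    rintro _ ⟨y, hy, rfl⟩
    have h1 := Subgroup.characteristic_iff_map_eq.mp (inferInstance : (Cfsg.pCore r (G ⧸ F)).Characteristic)
      (QuotientGroup.congr F F σ hFσ)
    show ((σ y : G) : G ⧸ F) ∈ Cfsg.pCore r (G ⧸ F)
    rw [← h1]
    exact ⟨_, hy, rfl⟩
  obtain ⟨R, hR, hRσ⟩ := exists_sylow_invariant hσ hfpf M hMσ r
  have hMle : M ≤ R ⊔ F := by
    refine Subgroup.relIndex_eq_one.mp (Nat.eq_one_of_dvd_coprimes ?_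
      (Subgroup.relIndex_dvd_of_le_left M (le_sup_left : R ≤ R ⊔ F))
      (Subgroup.relIndex_dvd_of_le_left M (le_sup_right : F ≤ R ⊔ F)))
    have h1 : F.relIndex M = Nat.card (Cfsg.pCore r (G ⧸ F)) := by
      have h2 := Subgroup.relIndex_comap (⊥ : Subgroup (G ⧸ F)) (QuotientGroup.mk' F) M
      rw [MonoidHom.comap_bot, QuotientGroup.ker_mk', hM,
        Subgroup.map_comap_eq_self_of_surjective (QuotientGroup.mk'_surjective F), Subgroup.relIndex_bot_left] at h2
      rw [hM]; exact h2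
    obtain ⟨i, hi⟩ := (pCore_isPGroup (p := r) (G := G ⧸ F)).exists_card_eq
    rw [h1, hi]
    exact ((hr.out.coprime_iff_not_dvd.mpr hR.2.2).symm).pow_right i
  refine ⟨R, hR.2.1, hRσ, hR.1, hMle, (Subgroup.eq_top_iff' _).mpr fun g => ?_⟩
  obtain ⟨k, hk, e⟩ := IsSylowIn.conj hR (hR.smul (g := g) (mem_normalizer_iff_smul.mp
    (by rw [Subgroup.normalizer_eq_top]; exact Subgroup.mem_top g)))
  have hkg : k⁻¹ * g ∈ Subgroup.normalizer (R : Set G) := by
    rw [mem_normalizer_iff_smul, ← conj_smul_conj_smul, ← e, conj_smul_conj_smul, inv_mul_cancel, map_one, one_smul]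
  have hk' : k ∈ Subgroup.normalizer (R : Set G) ⊔ F := (hMle hk) |> (sup_le_sup_right Subgroup.le_normalizer F ·)
  rw [show g = k * (k⁻¹ * g) by group]
  exact Subgroup.mul_mem _ hk' (Subgroup.mem_sup_left hkg)

/-- If the involution moves the covers of every `O_r (G / F)` into the centralizers of the other cores it is
trivial modulo the Fitting subgroup. -/
theorem tau_trivial_fitting [(Cfsg.fittingSubgroup G).Normal] [Group.IsSolvable G] (hn : 1 ≤ n)
    (hσ : σ ^ 2 ^ n = 1) (hfpf : ∀ g : G, σ g = g → g = 1)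
    (hz : ∀ r : ℕ, r.Prime → r ≠ 2 → ∀ R : Subgroup G, IsPGroup r R → R.map σ.toMonoidHom = R →
      R ≤ (Cfsg.pCore r (G ⧸ Cfsg.fittingSubgroup G)).comap (QuotientGroup.mk' _) →
      ∀ l : ℕ, l.Prime → l ≠ r → ∀ y ∈ R,
        (σ ^ 2 ^ (n - 1) : MulAut G) y * y⁻¹ ∈ Subgroup.centralizer (Cfsg.pCore l G : Set G)) :
    ∀ g : G, (σ ^ 2 ^ (n - 1) : MulAut G) g * g⁻¹ ∈ Cfsg.fittingSubgroup G := by
  classical
  set F := Cfsg.fittingSubgroup G with hF
  set τ : MulAut G := σ ^ 2 ^ (n - 1) with hτ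
  have hFn : F.Normal := inferInstance
  have hFσ : F.map σ.toMonoidHom = F := Subgroup.characteristic_iff_map_eq.mp inferInstance σ
  have hpG := odd_card hσ hfpf
  have hτF : ∀ b ∈ F, τ b * b⁻¹ ∈ F := fun b hb => F.mul_mem (by
    rw [← Subgroup.characteristic_iff_map_eq.mp (inferInstance : F.Characteristic) τ]; exact ⟨b, hb, rfl⟩) (F.inv_mem hb)
  have hcore : ∀ r : ℕ, r.Prime → ∀ g : G, (g : G ⧸ F) ∈ Cfsg.pCore r (G ⧸ F) → τ g * g⁻¹ ∈ F := by
    intro r hr g hg
    haveI := Fact.mk hr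
    by_cases hr2 : r = 2
    · subst hr2
      have h1 : Cfsg.pCore 2 (G ⧸ F) = ⊥ := by
        obtain ⟨i, hi⟩ := (pCore_isPGroup (p := 2) (G := G ⧸ F)).exists_card_eq
        rcases Nat.eq_zero_or_pos i with rfl | hi0
        · exact Subgroup.card_eq_one.mp (by rw [hi, pow_zero])
        · exact absurd ((dvd_pow_self 2 hi0.ne').trans (hi ▸ (Subgroup.card_subgroup_dvd_card _).trans
            (Subgroup.card_quotient_dvd_card F))) hpG
      rw [h1, Subgroup.mem_bot, QuotientGroup.eq_one_iff] at hg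
      exact hτF g hg
    obtain ⟨R, hR, hRσ, hRM, hMle, -⟩ := exists_cover hσ hfpf r
    obtain ⟨a, ha, b, hb, e⟩ := Subgroup.mem_sup_of_normal_right.mp (hMle (show g ∈ Subgroup.comap _ _ from hg))
    have hτa : τ a * a⁻¹ ∈ F := by
      refine mem_fitting_of_centralizing hr ?_ fun l hl hlr => hz r hr hr2 R hR hRσ hRM l hl hlr a ha
      have hτR : ∀ k : ℕ, ∀ y ∈ R, (σ ^ k : MulAut G) y ∈ R := by
        intro k
        induction k with
        | zero => intro y hy; simpa using hy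
        | succ k ihk =>
          intro y hy
          rw [pow_succ, MulAut.mul_apply]
          exact ihk _ (by rw [← hRσ]; exact ⟨y, hy, rfl⟩)
      exact hRM (R.mul_mem (hτR _ a ha) (R.inv_mem ha))
    rw [← e, map_mul, mul_inv_rev, show τ a * τ b * (b⁻¹ * a⁻¹) = (τ a * (τ b * b⁻¹) * (τ a)⁻¹) * (τ a * a⁻¹) by group]
    exact F.mul_mem (hFn.conj_mem _ (hτF b hb) _) hτa
  let σq : MulAut (G ⧸ F) := QuotientGroup.congr F F σ hFσ
  have hσqk : ∀ (k : ℕ) (g : G), (σq ^ k) (g : G ⧸ F) = (((σ ^ k : MulAut G) g : G) : G ⧸ F) := by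
    intro k
    induction k with
    | zero => intro g; simp
    | succ k ihk =>
      intro g
      rw [pow_succ, pow_succ, MulAut.mul_apply, MulAut.mul_apply]
      exact ihk (σ g)
  set t := σq ^ 2 ^ (n - 1) with ht
  set F₂ := Cfsg.fittingSubgroup (G ⧸ F) with hF₂
  let E : Subgroup (G ⧸ F) := t.toMonoidHom.eqLocus (MonoidHom.id _)
  have hFE : F₂ ≤ E := by
    rw [hF₂, fittingSubgroup_eq_iSup_pCore]
    refine iSup_le fun r y hy => ?_
    obtain ⟨g, rfl⟩ := QuotientGroup.mk_surjective y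
    show t (g : G ⧸ F) = (g : G ⧸ F)
    rw [hσqk, ← hτ, QuotientGroup.eq_iff_div_mem, div_eq_mul_inv]
    exact hcore r r.2 g hy
  have htfix : ∀ y ∈ F₂, t y = y := fun y hy => hFE hy
  haveI : Group.IsSolvable (G ⧸ F) := Group.isSolvable_of_surjective (QuotientGroup.mk'_surjective F)
  have hcen : Subgroup.centralizer (F₂ : Set (G ⧸ F)) ≤ F₂ := centralizer_fittingSubgroup_le
  haveI hF₂n : F₂.Normal := fittingSubgroup_isNormal
  have htall : ∀ y, t y = y := by
    intro y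
    set z := y⁻¹ * t y with hz
    have hzF : z ∈ F₂ := hcen (Subgroup.mem_centralizer_iff.mpr fun x hx => by
      have h1 := htfix _ (hF₂n.conj_mem x hx y)
      rw [map_mul, map_mul, map_inv, htfix x hx] at h1
      calc x * z = y⁻¹ * (y * x * y⁻¹) * t y := by rw [hz]; group
        _ = y⁻¹ * (t y * x * (t y)⁻¹) * t y := by rw [h1]
        _ = z * x := by rw [hz]; group)
    have hty : t y = y * z := by rw [hz, mul_inv_cancel_left]
    have hpow : ∀ i : ℕ, (t ^ i) y = y * z ^ i := by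
      intro i
      induction i with
      | zero => simp
      | succ i ihi => rw [pow_succ', MulAut.mul_apply, ihi, map_mul, map_pow, hty, htfix z hzF, mul_assoc, ← pow_succ']
    have htp : t ^ 2 = 1 := by
      rw [ht, ← pow_mul, ← pow_succ, show n - 1 + 1 = n by omega]
      refine MulEquiv.ext fun y => ?_
      obtain ⟨g, rfl⟩ := QuotientGroup.mk_surjective y
      rw [hσqk, hσ]; rfl
    have hzp : z ^ 2 = 1 := by
      have h1 := hpow 2
      rw [htp, MulAut.one_apply, eq_comm, mul_eq_left] at h1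
      exact h1
    have hz1 : z = 1 := by
      rw [← orderOf_eq_one_iff]
      refine Nat.eq_one_of_dvd_coprimes (Nat.prime_two.coprime_iff_not_dvd.mpr ?_) (orderOf_dvd_of_pow_eq_one hzp)
        (orderOf_dvd_natCard z)
      exact fun h => hpG (h.trans (Subgroup.card_quotient_dvd_card F))
    rw [hty, hz1, mul_one]
  intro g
  have h1 := htall (g : G ⧸ F)
  rwa [hσqk, ← hτ, QuotientGroup.eq_iff_div_mem, div_eq_mul_inv] at h1

/-- A chain of length `m`. -/
def HasChain (G : Type u) [Group G] (m : ℕ) : Prop :=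
  ∃ F : Fin (m + 1) → Subgroup G, F 0 = ⊥ ∧ F (Fin.last m) = ⊤ ∧ Monotone F ∧ (∀ i, (F i).Normal) ∧
    ∀ i : Fin m, ∃ k : ℕ, (F i.succ).lowerCentralSeries k ≤ F i.castSucc

/-- Adding the Fitting subgroup below a chain of the quotient. -/
theorem hasChain_succ [(Cfsg.fittingSubgroup G).Normal] {m : ℕ}
    (h : HasChain (G ⧸ Cfsg.fittingSubgroup G) m) : HasChain G (m + 1) := by
  set F := Cfsg.fittingSubgroup G with hF
  obtain ⟨F', h0, hlast, hmono, hnormal, hnil⟩ := h
  refine ⟨Fin.cons ⊥ (fun i => (F' i).comap (QuotientGroup.mk' F)), rfl, ?_, ?_, ?_, ?_⟩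
  · rw [← Fin.succ_last, Fin.cons_succ, hlast, Subgroup.comap_top]
  · refine Fin.monotone_iff_le_succ.mpr fun i => ?_
    refine Fin.cases ?_ (fun j => ?_) i
    · rw [Fin.castSucc_zero, Fin.cons_zero]; exact bot_le
    · rw [Fin.castSucc_succ, Fin.cons_succ, Fin.cons_succ]
      exact Subgroup.comap_mono (hmono (Fin.castSucc_le_succ j))
  · refine Fin.cases ?_ (fun j => ?_)
    · rw [Fin.cons_zero]; infer_instance
    · rw [Fin.cons_succ]; exact (hnormal j).comap _
  · refine Fin.cases ?_ (fun j => ?_)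
    · rw [Fin.castSucc_zero, Fin.cons_zero, Fin.cons_succ, h0, MonoidHom.comap_bot, QuotientGroup.ker_mk']
      haveI : Group.IsNilpotent F := fittingSubgroup_isNilpotent
      obtain ⟨k, hk⟩ := Subgroup.nilpotent_iff_lowerCentralSeries.mp ‹Group.IsNilpotent F›
      refine ⟨k, ?_⟩
      rw [← Subgroup.top_subtype_lowerCentralSeries, hk, Subgroup.map_bot]
    · obtain ⟨k, hk⟩ := hnil j
      refine ⟨k, ?_⟩
      rw [Fin.castSucc_succ, Fin.cons_succ, Fin.cons_succ, ← Subgroup.map_le_iff_le_comap,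
        Subgroup.map_lowerCentralSeries,
        Subgroup.map_comap_eq_self_of_surjective (QuotientGroup.mk'_surjective F)]
      exact hk

/-- Order four: the quotient by the Fitting subgroup is abelian. -/
theorem hasChain_two [Group.IsSolvable G] {σ : MulAut G} (hσ : σ ^ 2 ^ 2 = 1)
    (hfpf : ∀ g : G, σ g = g → g = 1) : HasChain G 2 := by
  haveI : (Cfsg.fittingSubgroup G).Normal := fittingSubgroup_isNormal
  set F := Cfsg.fittingSubgroup G with hF
  have hτ := tau_trivial_fitting (n := 2) (by omega) hσ hfpf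
    (fun r hr hr2 R hR hRσ _ l hl hlr y hy => tau_centralizes_core (by omega) le_rfl hσ hfpf hr hr2 R hR hRσ hl hlr hy)
  have hFσ : F.map σ.toMonoidHom = F := Subgroup.characteristic_iff_map_eq.mp inferInstance σ
  let σq : MulAut (G ⧸ F) := QuotientGroup.congr F F σ hFσ
  have hinv : Function.Involutive σq := by
    intro y
    obtain ⟨g, rfl⟩ := QuotientGroup.mk_surjective y
    show ((σ (σ g) : G) : G ⧸ F) = (g : G ⧸ F)
    rw [QuotientGroup.eq_iff_div_mem, div_eq_mul_inv]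
    have h1 := hτ g
    simp only [show 2 ^ (2 - 1) = 1 + 1 from rfl, pow_add, pow_one, MulAut.mul_apply] at h1
    exact h1
  have hfix : MonoidHom.FixedPointFree (σq.toMonoidHom) := fun y hy => by
    obtain ⟨g, rfl⟩ := QuotientGroup.mk_surjective y
    rw [QuotientGroup.eq_one_iff]
    refine fpf_quotient hσ hfpf F hFσ g ?_
    rw [← div_eq_mul_inv, ← QuotientGroup.eq_iff_div_mem]
    exact hy
  refine hasChain_succ (m := 1) ⟨![⊥, ⊤], rfl, rfl, ?_, ?_, ?_⟩
  · refine Fin.monotone_iff_le_succ.mpr fun i => ?_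
    have : i = 0 := Subsingleton.elim _ _
    subst this
    exact bot_le
  · intro i
    fin_cases i
    · exact inferInstanceAs (⊥ : Subgroup (G ⧸ F)).Normal
    · exact inferInstanceAs (⊤ : Subgroup (G ⧸ F)).Normal
  · intro i
    have : i = 0 := Subsingleton.elim _ _
    subst this
    refine ⟨1, ?_⟩
    show (⊤ : Subgroup (G ⧸ F)).lowerCentralSeries 1 ≤ ⊥
    rw [Subgroup.top_lowerCentralSeries_one, commutator_def, Subgroup.commutator_le]
    intro a _ b _
    rw [Subgroup.mem_bot, commutatorElement_eq_one_iff_mul_comm]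
    exact hfix.commute_all_of_involutive hinv a b

/-- The involution is trivial on the quotient by the second Fitting subgroup. -/
theorem tau_trivial_second [(Cfsg.fittingSubgroup G).Normal] [Group.IsSolvable G] (hn : 1 ≤ n)
    (hσ : σ ^ 2 ^ n = 1) (hfpf : ∀ g : G, σ g = g → g = 1)
    (σq : MulAut (G ⧸ Cfsg.fittingSubgroup G)) (hσq : σq ^ 2 ^ n = 1)
    (hfpfq : ∀ y, σq y = y → y = 1)
    (hmk : ∀ (k : ℕ) (g : G),
      (σq ^ k) (g : G ⧸ Cfsg.fittingSubgroup G) = (((σ ^ k : MulAut G) g : G) : G ⧸ Cfsg.fittingSubgroup G))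
    [(Cfsg.fittingSubgroup (G ⧸ Cfsg.fittingSubgroup G)).Normal] :
    ∀ h : G ⧸ Cfsg.fittingSubgroup G,
      (σq ^ 2 ^ (n - 1) : MulAut _) h * h⁻¹ ∈ Cfsg.fittingSubgroup (G ⧸ Cfsg.fittingSubgroup G) := by
  classical
  set F := Cfsg.fittingSubgroup G with hF
  haveI : Group.IsSolvable (G ⧸ F) := Group.isSolvable_of_surjective (QuotientGroup.mk'_surjective F)
  refine tau_trivial_fitting hn hσq hfpfq fun q hq hq2 S hS hSσ _ r hr hrq y hy => ?_
  by_cases hr2 : r = 2
  · subst hr2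
    simp [pCore_two_eq_bot hσq hfpfq, Subgroup.mem_centralizer_iff]
  haveI := Fact.mk hr
  haveI := Fact.mk hq
  obtain ⟨R, hR, hRσ, hRM, hMle, hfrat⟩ := exists_cover hσ hfpf r
  set L := S.comap (QuotientGroup.mk' F) ⊓ Subgroup.normalizer (R : Set G) with hL
  have hLσ : L.map σ.toMonoidHom = L := by
    refine Subgroup.eq_of_le_of_card_ge ?_ (le_of_eq
      (Nat.card_congr (L.equivMapOfInjective σ.toMonoidHom σ.injective).toEquiv))
    rintro _ ⟨g, hg, rfl⟩
    obtain ⟨hg1, hg2⟩ := Subgroup.mem_inf.mp hg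
    refine Subgroup.mem_inf.mpr ⟨?_, ?_⟩
    · show ((σ g : G) : G ⧸ F) ∈ S
      have h1 := hmk 1 g
      rw [pow_one, pow_one] at h1
      rw [← h1, ← hSσ]
      exact ⟨_, hg1, rfl⟩
    · rw [← hRσ]
      exact Subgroup.le_normalizer_map σ.toMonoidHom ⟨g, hg2, rfl⟩
  obtain ⟨Q, hQ, hQσ⟩ := exists_sylow_invariant hσ hfpf L hLσ q
  have honto : S ≤ L.map (QuotientGroup.mk' F) := by
    intro m hm
    obtain ⟨g, rfl⟩ := QuotientGroup.mk'_surjective F m
    obtain ⟨a, ha, b, hb, e⟩ := Subgroup.mem_sup_of_normal_right.mp (hfrat ▸ Subgroup.mem_top g)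
    have he : QuotientGroup.mk' F a = QuotientGroup.mk' F g := by
      rw [← e, map_mul, (QuotientGroup.eq_one_iff b).mpr hb |> (show QuotientGroup.mk' F b = 1 from ·), mul_one]
    exact ⟨a, Subgroup.mem_inf.mpr ⟨(show QuotientGroup.mk' F a ∈ S from he ▸ hm), ha⟩, he⟩
  have hQS : S ≤ Q.map (QuotientGroup.mk' F) := by
    refine Subgroup.relIndex_eq_one.mp (Nat.eq_one_of_dvd_coprimes ?_ dvd_rfl
      (Subgroup.relIndex_dvd_card _ S))
    obtain ⟨i, hi⟩ := hS.exists_card_eq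
    rw [hi]
    refine Nat.Coprime.coprime_dvd_left ?_ ((hq.coprime_iff_not_dvd.mpr hQ.2.2).symm.pow_right i)
    have hLS : L.map (QuotientGroup.mk' F) = S :=
      le_antisymm (Subgroup.map_le_iff_le_comap.mpr inf_le_left) honto
    rw [← hLS, ← Subgroup.relIndex_comap]
    exact Subgroup.relIndex_dvd_of_le_left L (Subgroup.le_comap_map _ _)
  obtain ⟨y', hy', rfl⟩ := hQS hy
  rw [Subgroup.mem_centralizer_iff]
  intro m hm
  obtain ⟨w, rfl⟩ := QuotientGroup.mk'_surjective F m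
  obtain ⟨a, ha, b, hb, e⟩ := Subgroup.mem_sup_of_normal_right.mp (hMle (show w ∈ Subgroup.comap _ _ from hm))
  have hwa : QuotientGroup.mk' F w = QuotientGroup.mk' F a := by
    rw [← e, map_mul, (QuotientGroup.eq_one_iff b).mpr hb |> (show QuotientGroup.mk' F b = 1 from ·), mul_one]
  have hz : (σq ^ 2 ^ (n - 1) : MulAut _) (QuotientGroup.mk' F y') * (QuotientGroup.mk' F y')⁻¹ =
      QuotientGroup.mk' F ((σ ^ 2 ^ (n - 1) : MulAut G) y' * y'⁻¹) := by
    rw [map_mul, map_inv]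
    congr 1
    exact hmk _ y'
  rw [hz, hwa, ← commutatorElement_eq_one_iff_mul_comm, ← map_commutatorElement]
  refine (QuotientGroup.eq_one_iff _).mpr (mem_fitting_of_centralizing hr ?_ fun l hl hlr => ?_)
  · haveI : (Cfsg.pCore r (G ⧸ F)).Normal := pCore_isNormal
    show QuotientGroup.mk' F ⁅a, _⁆ ∈ _
    rw [map_commutatorElement, commutatorElement_def, mul_assoc (QuotientGroup.mk' F a * _), mul_assoc (QuotientGroup.mk' F a)]
    exact Subgroup.mul_mem _ (hRM ha) (by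
      rw [← mul_assoc]
      exact ‹(Cfsg.pCore r (G ⧸ F)).Normal›.conj_mem _ (Subgroup.inv_mem _ (hRM ha)) _)
  · exact commutator_centralizes_core hn hσ hfpf hr hr2 hq hq2 (Ne.symm hrq) R hR hRσ Q hQ.2.1 hQσ
      (hQ.1.trans inf_le_right) hl hlr ha hy'

/-- Fitting height at most `2 n - 2`. -/
theorem fitting_height : ∀ n : ℕ, 2 ≤ n → ∀ (G : Type u) [Group G] [Finite G], Group.IsSolvable G →
    ∀ σ : MulAut G, σ ^ 2 ^ n = 1 → (∀ g : G, σ g = g → g = 1) → HasChain G (2 * n - 2) := by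
  intro n hn
  induction n, hn using Nat.le_induction with
  | base =>
    intro G _ _ hG σ hσ hfpf
    haveI := hG
    exact hasChain_two hσ hfpf
  | succ n hn ih =>
    intro G _ _ hG σ hσ hfpf
    haveI := hG
    haveI hFn : (Cfsg.fittingSubgroup G).Normal := fittingSubgroup_isNormal
    set F := Cfsg.fittingSubgroup G with hF
    have hFσ : F.map σ.toMonoidHom = F := Subgroup.characteristic_iff_map_eq.mp inferInstance σ
    let σq : MulAut (G ⧸ F) := QuotientGroup.congr F F σ hFσ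
    have hmk : ∀ (k : ℕ) (g : G), (σq ^ k) (g : G ⧸ F) = (((σ ^ k : MulAut G) g : G) : G ⧸ F) := by
      intro k
      induction k with
      | zero => intro g; simp
      | succ k ihk =>
        intro g
        rw [pow_succ, pow_succ, MulAut.mul_apply, MulAut.mul_apply]
        exact ihk (σ g)
    have hσq : σq ^ 2 ^ (n + 1) = 1 := MulEquiv.ext fun y => by
      obtain ⟨g, rfl⟩ := QuotientGroup.mk_surjective y
      rw [hmk, hσ]; rfl
    have hfpfq : ∀ y, σq y = y → y = 1 := fun y hy => by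
      obtain ⟨g, rfl⟩ := QuotientGroup.mk_surjective y
      rw [QuotientGroup.eq_one_iff]
      refine fpf_quotient hσ hfpf F hFσ g ?_
      rw [← div_eq_mul_inv, ← QuotientGroup.eq_iff_div_mem]
      exact hy
    haveI hHs : Group.IsSolvable (G ⧸ F) := Group.isSolvable_of_surjective (QuotientGroup.mk'_surjective F)
    haveI hF₂n : (Cfsg.fittingSubgroup (G ⧸ F)).Normal := fittingSubgroup_isNormal
    set F₂ := Cfsg.fittingSubgroup (G ⧸ F) with hF₂
    have hτ := tau_trivial_second (by omega) hσ hfpf σq hσq hfpfq hmk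
    have hF₂σ : F₂.map σq.toMonoidHom = F₂ := Subgroup.characteristic_iff_map_eq.mp inferInstance σq
    let σ₂ : MulAut ((G ⧸ F) ⧸ F₂) := QuotientGroup.congr F₂ F₂ σq hF₂σ
    have hmk₂ : ∀ (k : ℕ) (g : G ⧸ F),
        (σ₂ ^ k) (g : (G ⧸ F) ⧸ F₂) = (((σq ^ k : MulAut _) g : G ⧸ F) : (G ⧸ F) ⧸ F₂) := by
      intro k
      induction k with
      | zero => intro g; simp
      | succ k ihk =>
        intro g
        rw [pow_succ, pow_succ, MulAut.mul_apply, MulAut.mul_apply]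
        exact ihk (σq g)
    have hσ₂ : σ₂ ^ 2 ^ n = 1 := MulEquiv.ext fun y => by
      obtain ⟨g, rfl⟩ := QuotientGroup.mk_surjective y
      rw [hmk₂, MulAut.one_apply, QuotientGroup.eq_iff_div_mem, div_eq_mul_inv]
      simpa using hτ g
    have hfpf₂ : ∀ y, σ₂ y = y → y = 1 := fun y hy => by
      obtain ⟨g, rfl⟩ := QuotientGroup.mk_surjective y
      rw [QuotientGroup.eq_one_iff]
      refine fpf_quotient hσq hfpfq F₂ hF₂σ g ?_
      rw [← div_eq_mul_inv, ← QuotientGroup.eq_iff_div_mem]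
      exact hy
    have h1 := hasChain_succ (G := G ⧸ F)
      (ih ((G ⧸ F) ⧸ F₂) (Group.isSolvable_of_surjective (QuotientGroup.mk'_surjective F₂)) σ₂ hσ₂ hfpf₂)
    have h2 := hasChain_succ h1
    rwa [show 2 * n - 2 + 1 + 1 = 2 * (n + 1) - 2 by omega] at h2

end Cfsg.Agent.Grp.GrossFpf
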